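import Cfsg.Agent.MK.S.Defs
import Cfsg.Agent.ODD.Cov.Basic

/-!
# MK, the small rows: transport along isomorphisms and the two forms of a small row (helper47)

* `fA_congr`, `fB_congr`, `sm_congr`, `SmS.congr`, `SmC.congr`;
* `gd_of_two`, `gd_of_three` : `Gd` from `SmS`, `SmC` and a cyclic multiplier.
-/

set_option autoImplicit false

namespace Cfsg.Agent.MK.S

open Cfsg Subgroup Cfsg.Agent.ODD Cfsg.Agent.ODD.Cv

section

variable {X G : Type} [Group X] [Group G]

theorem oi_comp (φ : X →* G) (hφ : Function.Surjective φ) {θ : G → ℂ} (h : OI G θ) : OI X (θ ∘ φ) :=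
  ⟨Characters.Core.isIrr_comp φ hφ h.1, by rw [charDegree_comp]; exact h.2⟩

theorem oi_congr (e : X ≃* G) (θ : G → ℂ) : OI X (θ ∘ e) ↔ OI G θ := by
  refine ⟨fun h => ?_, fun h => oi_comp e.toMonoidHom e.surjective h⟩
  have h1 := oi_comp e.symm.toMonoidHom e.symm.surjective h
  have h2 : (θ ∘ e) ∘ e.symm.toMonoidHom = θ := by
    funext g
    simp
  rwa [h2] at h1

theorem mem_center_congr (e : X ≃* G) (x : X) : e x ∈ center G ↔ x ∈ center X := by
  rw [mem_center_iff, mem_center_iff]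
  constructor
  · intro h y
    exact e.injective (by rw [map_mul, map_mul, h])
  · intro h g
    obtain ⟨y, rfl⟩ := e.surjective g
    rw [← map_mul, ← map_mul, h]

/-- functions on `G` and on `X` -/
def fe (e : X ≃* G) : (G → ℂ) ≃ (X → ℂ) where
  toFun θ := θ ∘ e
  invFun θ := θ ∘ e.symm
  left_inv θ := by funext g; simp
  right_inv θ := by funext g; simp

theorem fA_congr (e : X ≃* G) (l : G → ℂ) (α : MulAut X) (β : MulAut G) (h : ∀ x, β (e x) = e (α x)) :
    fA (l ∘ e) α = fA l β := by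
  refine (Nat.card_congr ((fe e).subtypeEquiv fun θ => ?_)).symm
  show _ ↔ OI X (θ ∘ e) ∧ (∀ z ∈ center X, θ (e z) = l (e z) * θ (e 1)) ∧ ∀ x, θ (e (α x)) = θ (e x)
  rw [oi_congr, map_one]
  refine and_congr Iff.rfl (and_congr ⟨fun h1 z hz => h1 _ ((mem_center_congr e z).2 hz), fun h1 z hz => ?_⟩
    ⟨fun h1 x => by rw [← h, h1], fun h1 g => ?_⟩)
  · obtain ⟨y, rfl⟩ := e.surjective z
    exact h1 y ((mem_center_congr e y).1 hz)
  · obtain ⟨y, rfl⟩ := e.surjective g
    rw [h, h1]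

/-- the isomorphism of corresponding subgroups -/
def se (e : X ≃* G) (K' : Subgroup X) (K : Subgroup G) (hK : ∀ x, x ∈ K' ↔ e x ∈ K) : K' ≃* K where
  toFun x := ⟨e x, (hK _).1 x.2⟩
  invFun g := ⟨e.symm g, (hK _).2 (by simp)⟩
  left_inv x := Subtype.ext (by simp)
  right_inv g := Subtype.ext (by simp)
  map_mul' x y := Subtype.ext (by simp)

theorem fB_congr (e : X ≃* G) (K' : Subgroup X) (K : Subgroup G) (hK : ∀ x, x ∈ K' ↔ e x ∈ K) (l : G → ℂ)
    (α : MulAut X) (β : MulAut G) (h : ∀ x, β (e x) = e (α x)) : fB K' (l ∘ e) α = fB K l β := by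
  refine (Nat.card_congr ((fe (se e K' K hK)).subtypeEquiv fun ψ => ?_)).symm
  show _ ↔ OI K' (ψ ∘ se e K' K hK) ∧ (∀ y : K', (y : X) ∈ center X → ψ (se e K' K hK y) = l (e y) * ψ (se e K' K hK 1)) ∧
    ∀ y y' : K', (y' : X) = α y → ψ (se e K' K hK y') = ψ (se e K' K hK y)
  rw [oi_congr, map_one]
  refine and_congr Iff.rfl (and_congr ⟨fun h1 z hz => h1 _ ((mem_center_congr e z).2 hz), fun h1 z hz => ?_⟩
    ⟨fun h1 y y' hy => h1 _ _ ?_, fun h1 y y' hy => ?_⟩)
  · obtain ⟨y, rfl⟩ := (se e K' K hK).surjective z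
    exact h1 y ((mem_center_congr e y).1 hz)
  · show e y' = β (e y)
    rw [h, hy]
  · obtain ⟨z, rfl⟩ := (se e K' K hK).surjective y
    obtain ⟨z', rfl⟩ := (se e K' K hK).surjective y'
    refine h1 _ _ (e.injective ?_)
    rw [← h]
    exact hy

/-- `Sm` is invariant under isomorphisms. -/
theorem sm_congr (e : X ≃* G) (h : Sm G) : Sm X := by
  obtain ⟨⟨γ, hγ⟩, Q, hQ⟩ := h
  have fix : ∀ α : MulAut X, (∀ z ∈ center X, α z = z) → ∀ z ∈ center G, MulAut.congr e α z = z := by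
    intro α hα z hz
    obtain ⟨y, rfl⟩ := e.surjective z
    have h1 := hα y ((mem_center_congr e y).1 hz)
    simp [MulAut.congr, h1]
  have app : ∀ (α : MulAut X) x, MulAut.congr e α (e x) = e (α x) := fun α x => by simp [MulAut.congr]
  refine ⟨⟨(MulAut.congr e).symm γ, fun α hα => ?_⟩, ?_⟩
  · obtain ⟨k, g, hg⟩ := hγ _ (fix α hα)
    refine ⟨k, e.symm g, (MulAut.congr e).injective ?_⟩
    rw [map_mul, map_pow, MulEquiv.apply_symm_apply, hg]
    congr 1
    ext y
    simp [MulAut.congr]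
  · let Q' : Sylow 2 X := Q.comapOfInjective e.toMonoidHom e.injective
      (by rw [MonoidHom.range_eq_top.2 e.surjective]; exact le_top)
    have hm : ∀ x, x ∈ (Q' : Subgroup X) ↔ e x ∈ (Q : Subgroup G) := fun x => Iff.rfl
    have hn : ∀ x, x ∈ normalizer ((Q' : Subgroup X) : Set X) ↔ e x ∈ normalizer ((Q : Subgroup G) : Set G) := by
      intro x
      have h1 := comap_normalizer_eq_of_surjective (Q : Subgroup G) (f := e.toMonoidHom) e.surjective
      exact (SetLike.ext_iff.1 h1 x).symm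
    refine ⟨Q', fun l hl α hα hαQ => ?_⟩
    have hl' : l = (l ∘ e.symm) ∘ e := by
      funext x
      simp
    rw [hl', fA_congr e _ α _ (app α), fB_congr e _ _ hn _ α _ (app α)]
    refine hQ _ (fun z hz h1 => ?_) _ (fix α hα) fun g => ?_
    · obtain ⟨y, rfl⟩ := e.surjective z
      rw [hl y ((mem_center_congr e y).1 hz) (by simpa using h1), map_one]
    · obtain ⟨y, rfl⟩ := e.surjective g
      rw [app, ← hm, ← hm]
      exact hαQ y

theorem SmS.congr (e : X ≃* G) (h : SmS G) : SmS X :=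
  fun ih => sm_congr e (h (Nat.card_congr e.toEquiv ▸ ih))

theorem SmC.congr (e : X ≃* G) (h : SmC G) : SmC X := by
  intro Y _ _ φ h1 h2 h3 h4 ih
  refine h Y (e.toMonoidHom.comp φ) (e.surjective.comp h1) ?_ h3 h4 (Nat.card_congr e.toEquiv ▸ ih)
  rw [← h2]
  ext x
  simp

end

section

variable {K : Fam} {X : Type} [Group X] [Finite X] {G : Type} [Group G] {Γ : Subgroup (MulAut X)}

omit [Finite X] in
theorem index_center (e : X ⧸ center X ≃* G) : (center X).index = Nat.card G :=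
  Nat.card_congr e.toEquiv

/-- trivial centre -/
theorem gd_of_bot (hs : StepSm) (s : Sit X Γ) (e : X ⧸ center X ≃* G) (hZ : center X = ⊥) (h : SmS G) : Gd X Γ :=
  hs X Γ s fun ih => sm_congr ((eqv hZ).trans e) (h (index_center e ▸ ih))

/-- a centre of order three -/
theorem gd_of_card (hs : StepSm) (s : Sit X Γ) (e : X ⧸ center X ≃* G) (hZ : Nat.card (center X) = 3) (h : SmC G) :
    Gd X Γ := by
  have h4 : (e.toMonoidHom.comp (QuotientGroup.mk' (center X))).ker = center X := by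
    ext x
    simp
  exact hs X Γ s fun ih => h X (e.toMonoidHom.comp (QuotientGroup.mk' (center X)))
    (e.surjective.comp (QuotientGroup.mk'_surjective _)) h4 hZ s.qs.1.commutator_eq_top (index_center e ▸ ih)

/-- no odd cover, from a bound for the multiplier -/
theorem gd_of_mb (hs : StepSm) (c : Cov K X) (s : Sit X Γ) (e : Nonempty (X ⧸ center X ≃* G)) {k : ℕ}
    (hm : MB G (2 ^ k)) (h : SmS G) : Gd X Γ := by
  obtain ⟨e⟩ := e
  exact gd_of_bot hs s e (center_eq_bot c (hm.congr e)) h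

/-- a triple cover, from a bound for the multiplier -/
theorem gd_of_mb3 (hs : StepSm) (c : Cov K X) (s : Sit X Γ) (e : Nonempty (X ⧸ center X ≃* G)) {k : ℕ}
    (hm : MB G (2 ^ k * 3)) (h : SmS G) (h' : SmC G) : Gd X Γ := by
  obtain ⟨e⟩ := e
  have h1 := card_center_dvd c (hm.congr e)
  have h2 : Nat.card (center X) ∣ 3 :=
    (Nat.Coprime.pow_right k (Nat.coprime_two_right.2 c.odd)).dvd_of_dvd_mul_left h1
  rcases (Nat.dvd_prime Nat.prime_three).1 h2 with h3 | h3
  · exact gd_of_bot hs s e (card_eq_one.1 h3) h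
  · exact gd_of_card hs s e h3 h'

/-- no odd cover -/
theorem gd_of_two (hs : StepSm) (c : Cov K X) (s : Sit X Γ) (e : Nonempty (X ⧸ center X ≃* G)) {k : ℕ}
    (hm : HasCyclicSchurMultiplier G (2 ^ k)) (h : SmS G) : Gd X Γ :=
  gd_of_mb hs c s e (MB.of_cyc hm) h

/-- a triple cover -/
theorem gd_of_three (hs : StepSm) (c : Cov K X) (s : Sit X Γ) (e : Nonempty (X ⧸ center X ≃* G)) {n k : ℕ}
    (hm : HasCyclicSchurMultiplier G n) (hn : n ∣ 2 ^ k * 3) (h : SmS G) (h' : SmC G) : Gd X Γ :=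
  gd_of_mb3 hs c s e ((MB.of_cyc hm).mono hn) h h'

end

end Cfsg.Agent.MK.S
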