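import Cfsg.Agent.MK.Defs

/-!
# MK, the small rows: what the tables deliver (helper47)

* `SmS S` : `Sm S` from the induction hypothesis below `|S|`;
* `SmC S` : the same for the perfect central extensions of `S` with a centre of order `3`;
* `SporIn` : one field for each sporadic group and each triple cover.
-/

set_option autoImplicit false

namespace Cfsg.Agent.MK.S

open Cfsg Cfsg.Spor Subgroup

/-- the small row of a simple group -/
def SmS (S : Type) [Group S] : Prop := IH (Nat.card S) → Sm S

/-- the small row of the triple covers of a simple group -/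
def SmC (S : Type) [Group S] : Prop :=
  ∀ (X : Type) [Group X] [Finite X] (φ : X →* S), Function.Surjective φ → φ.ker = center X →
    Nat.card (center X) = 3 → commutator X = ⊤ → IH (Nat.card S) → Sm X

/-- **What the sporadic rows deliver.** -/
structure SporIn : Prop where
  m11 : SmS M11
  m12 : SmS M12
  m22 : SmS M22
  m223 : SmC M22
  m23 : SmS M23
  m24 : SmS M24
  j1 : SmS J1
  j2 : SmS J2
  j3 : ∀ (F : Type) [Field F] [Fintype F] (ω : F), Fintype.card F = 4 → ω ^ 2 + ω + 1 = 0 → SmS (J3 F ω)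
  j33 : ∀ (F : Type) [Field F] [Fintype F] (ω : F), Fintype.card F = 4 → ω ^ 2 + ω + 1 = 0 → SmC (J3 F ω)
  j4 : SmS J4
  co1 : SmS Co1
  co2 : SmS Co2
  co3 : SmS Co3
  mcl : SmS McL
  mcl3 : SmC McL
  hs : SmS HS
  suz : SmS Suz
  suz3 : SmC Suz
  he : SmS He
  ru : SmS Ru
  on : SmS ON
  on3 : SmC ON
  ly : SmS Ly
  fi22 : SmS Fi22
  fi223 : SmC Fi22
  fi23 : SmS Fi23
  fi24 : SmS Fi24'
  fi243 : SmC Fi24'
  hn : SmS HN
  th : SmS Th
  b : SmS BabyMonster
  m : SmS Monster

end Cfsg.Agent.MK.S
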