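import Mathlib.GroupTheory.Commutator.Basic
import Mathlib.GroupTheory.Index
import Mathlib.Algebra.Group.Subgroup.Finite
import Mathlib.Data.Finite.Sum
import Mathlib.Tactic.Group

/-!
# The commutator factor group of a `2`-group from a polycyclic series (helper47, MK)

* `PC g n m` : `g 0, …, g (n - 1)` is a polycyclic sequence with factors of order at most `2`, whose tail from `m` on
  generates the commutator subgroup;
* `PC.index` : the commutator subgroup has the index `2 ^ m` if the group has at least `2 ^ n` elements;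
* `chk`, `pc_of_chk` : a certificate, for any sound test `eqv` of the equality of two words.
-/

set_option autoImplicit false

namespace Cfsg.Agent.MK.S.Pc

open Subgroup
open scoped commutatorElement

variable {Γ : Type*} [Group Γ]

/-- the value of a word -/
def ev (y : ℕ → Γ) (w : List ℕ) : Γ := (w.map y).prod

theorem ev_nil (y : ℕ → Γ) : ev y [] = 1 := rfl

theorem ev_cons (y : ℕ → Γ) (a : ℕ) (w : List ℕ) : ev y (a :: w) = y a * ev y w := by simp [ev]

theorem ev_append (y : ℕ → Γ) (v w : List ℕ) : ev y (v ++ w) = ev y v * ev y w := by simp [ev]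

/-- the subgroup generated by `g k, …, g (n - 1)` -/
def V (g : ℕ → Γ) (n k : ℕ) : Subgroup Γ := closure (g '' {i | k ≤ i ∧ i < n})

variable {g : ℕ → Γ} {n m : ℕ}

theorem mem_V {k i : ℕ} (h1 : k ≤ i) (h2 : i < n) : g i ∈ V g n k := subset_closure ⟨i, ⟨h1, h2⟩, rfl⟩

theorem V_le {k : ℕ} {H : Subgroup Γ} (h : ∀ i, k ≤ i → i < n → g i ∈ H) : V g n k ≤ H := by
  rw [V, closure_le]
  rintro _ ⟨i, hi, rfl⟩
  exact h i hi.1 hi.2

theorem V_mono {k l : ℕ} (h : k ≤ l) : V g n l ≤ V g n k := V_le fun _ h1 h2 => mem_V (h.trans h1) h2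

theorem ev_mem {H : Subgroup Γ} : ∀ {w : List ℕ}, (∀ i ∈ w, g i ∈ H) → ev g w ∈ H
  | [], _ => one_mem H
  | a :: _, h => by
    rw [ev_cons]
    exact mul_mem (h a List.mem_cons_self) (ev_mem fun i hi => h i (List.mem_cons_of_mem _ hi))

theorem conj_V {k : ℕ} {a : Γ} {H : Subgroup Γ} (h : ∀ i, k ≤ i → i < n → a * g i * a⁻¹ ∈ H) {x : Γ}
    (hx : x ∈ V g n k) : a * x * a⁻¹ ∈ H :=
  (V_le (H := H.comap (MulAut.conj a).toMonoidHom) h :) hx

/-- an extension by an element whose square is in the subgroup -/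
theorem card_ext [Finite Γ] {W H : Subgroup Γ} {a : Γ} (h1 : a * a ∈ W) (h2 : ∀ x ∈ W, a * x * a⁻¹ ∈ W)
    (h3 : ∀ K : Subgroup Γ, W ≤ K → a ∈ K → H ≤ K) : Nat.card H ≤ 2 * Nat.card W := by
  have h4 : ∀ x ∈ W, a⁻¹ * x * a ∈ W := fun x hx => by
    have e : a⁻¹ * x * a = (a * a)⁻¹ * (a * x * a⁻¹) * (a * a) := by group
    rw [e]
    exact mul_mem (mul_mem (inv_mem h1) (h2 x hx)) h1
  let K : Subgroup Γ :=
    { carrier := {x | x ∈ W ∨ a⁻¹ * x ∈ W}
      one_mem' := Or.inl (one_mem W)
      mul_mem' := by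
        rintro x z (hx | hx) (hz | hz)
        · exact Or.inl (mul_mem hx hz)
        · refine Or.inr ?_
          have e : a⁻¹ * (x * z) = a⁻¹ * x * a * (a⁻¹ * z) := by group
          rw [e]
          exact mul_mem (h4 x hx) hz
        · refine Or.inr ?_
          rw [← mul_assoc]
          exact mul_mem hx hz
        · refine Or.inl ?_
          have e : x * z = a * (a⁻¹ * x) * a⁻¹ * (a * a) * (a⁻¹ * z) := by group
          rw [e]
          exact mul_mem (mul_mem (h2 _ hx) h1) hz
      inv_mem' := by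
        rintro x (hx | hx)
        · exact Or.inl (inv_mem hx)
        · refine Or.inr ?_
          have e : a⁻¹ * x⁻¹ = a⁻¹ * (a⁻¹ * x)⁻¹ * a * (a * a)⁻¹ := by group
          rw [e]
          exact mul_mem (h4 _ (inv_mem hx)) (inv_mem h1) }
  have h5 := h3 K (fun _ hx => Or.inl hx) (Or.inr (by rw [inv_mul_cancel]; exact one_mem W))
  classical
  rw [two_mul, ← Nat.card_sum]
  refine Nat.card_le_card_of_injective (fun x : H => if h : (x : Γ) ∈ W then Sum.inl ⟨x, h⟩ else
    Sum.inr ⟨a⁻¹ * x, (h5 x.2).resolve_left h⟩) fun x z hxz => ?_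
  by_cases hx : (x : Γ) ∈ W <;> by_cases hz : (z : Γ) ∈ W <;> simp only [hx, hz, dite_true, dite_false] at hxz
  · exact Subtype.ext (congrArg Subtype.val (Sum.inl.inj hxz) :)
  · cases hxz
  · cases hxz
  · exact Subtype.ext (mul_left_cancel (congrArg Subtype.val (Sum.inr.inj hxz) :))

/-- a polycyclic sequence whose tail generates the commutator subgroup -/
structure PC (g : ℕ → Γ) (n m : ℕ) : Prop where
  le : m ≤ n
  sq : ∀ i < n, g i * g i ∈ V g n (i + 1)
  cm : ∀ i j, i < j → j < n → ⁅g i, g j⁆ ∈ V g n (max m (i + 1))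
  dv : ∀ j, m ≤ j → j < n → g j ∈ ⁅V g n 0, V g n 0⁆ ⊔ V g n (j + 1)

namespace PC

variable (h : PC g n m)
include h

theorem step [Finite Γ] {k : ℕ} (hk : k < n) : Nat.card (V g n k) ≤ 2 * Nat.card (V g n (k + 1)) := by
  refine card_ext (h.sq k hk) (fun x hx => conj_V (fun j h1 h2 => ?_) hx) fun K h1 h2 => V_le fun i h3 h4 => ?_
  · have e : g k * g j * (g k)⁻¹ = ⁅g k, g j⁆ * g j := by
      rw [commutatorElement_def]
      group
    rw [e]
    exact mul_mem (V_mono (le_max_right _ _) (h.cm k j h1 h2)) (mem_V h1 h2)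
  · rcases h3.eq_or_lt with rfl | h5
    · exact h2
    · exact h1 (mem_V h5 h4)

theorem steps [Finite Γ] (k : ℕ) : ∀ d, k + d ≤ n → Nat.card (V g n k) ≤ 2 ^ d * Nat.card (V g n (k + d))
  | 0, _ => by simp
  | d + 1, hd => by
    refine (steps k d (by omega)).trans ?_
    rw [pow_succ, mul_assoc]
    exact Nat.mul_le_mul_left _ (h.step (by omega))

theorem card_le [Finite Γ] {k : ℕ} (hk : k ≤ n) : Nat.card (V g n k) ≤ 2 ^ (n - k) := by
  have h1 := h.steps k (n - k) (by omega)
  have h2 : V g n (k + (n - k)) = ⊥ := le_bot_iff.1 (V_le fun i h1 h2 => by omega)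
  rwa [h2, card_bot, mul_one] at h1

theorem norm [Finite Γ] : V g n 0 ≤ normalizer (V g n m : Set Γ) := by
  refine V_le fun i _ hi => mem_normalizer_fintype fun x hx => conj_V (fun j h1 h2 => ?_) hx
  by_cases hij : i < j
  · have e : g i * g j * (g i)⁻¹ = ⁅g i, g j⁆ * g j := by
      rw [commutatorElement_def]
      group
    rw [e]
    exact mul_mem (V_mono (le_max_left _ _) (h.cm i j hij h2)) (mem_V h1 h2)
  · have h3 : g i ∈ V g n m := mem_V (by omega) hi
    exact mul_mem (mul_mem h3 (mem_V h1 h2)) (inv_mem h3)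

theorem comm_le [Finite Γ] : ⁅V g n 0, V g n 0⁆ ≤ V g n m := by
  have h0 : ∀ a ∈ V g n 0, ∀ x ∈ V g n m, a * x * a⁻¹ ∈ V g n m := fun a ha x hx =>
    (mem_normalizer_iff.1 (h.norm ha) x).1 hx
  have key : ∀ z : Γ, (∀ i < n, ⁅g i, z⁆ ∈ V g n m) → ∀ x ∈ V g n 0, ⁅x, z⁆ ∈ V g n m := by
    intro z hz x hx
    induction hx using closure_induction with
    | mem x hx =>
      obtain ⟨i, hi, rfl⟩ := hx
      exact hz i hi.2
    | one => rw [commutatorElement_one_left]; exact one_mem _
    | mul a b ha _ h1 h2 =>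
      have e : ⁅a * b, z⁆ = a * ⁅b, z⁆ * a⁻¹ * ⁅a, z⁆ := by
        simp only [commutatorElement_def]
        group
      rw [e]
      exact mul_mem (h0 a ha _ h2) h1
    | inv a ha h1 =>
      have e : ⁅a⁻¹, z⁆ = a⁻¹ * ⁅a, z⁆⁻¹ * a⁻¹⁻¹ := by
        simp only [commutatorElement_def]
        group
      rw [e]
      exact h0 _ (inv_mem ha) _ (inv_mem h1)
  rw [commutator_le]
  intro x hx z hz
  refine key z (fun i hi => ?_) x hx
  rw [← commutatorElement_inv]
  refine inv_mem (key _ (fun j hj => ?_) z hz)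
  rcases lt_trichotomy j i with h1 | rfl | h1
  · exact V_mono (le_max_left _ _) (h.cm j i h1 hi)
  · rw [commutatorElement_self]
    exact one_mem _
  · rw [← commutatorElement_inv]
    exact inv_mem (V_mono (le_max_left _ _) (h.cm i j h1 hj))

theorem le_comm : ∀ d, d + m ≤ n → V g n (n - d) ≤ ⁅V g n 0, V g n 0⁆
  | 0, _ => V_le fun i h1 h2 => by omega
  | d + 1, hd => V_le fun i h1 h2 => by
    have h3 := le_comm d (by omega)
    by_cases h4 : n - d ≤ i
    · exact h3 (mem_V h4 h2)
    · have h5 := h.dv i (by omega) h2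
      rw [show i + 1 = n - d by omega, sup_of_le_left h3] at h5
      exact h5

/-- the commutator subgroup -/
theorem comm_eq [Finite Γ] : ⁅V g n 0, V g n 0⁆ = V g n m := by
  refine le_antisymm h.comm_le ?_
  have h1 := h.le_comm (n - m) (by have := h.le; omega)
  rwa [show n - (n - m) = m by have := h.le; omega] at h1

theorem card_eq [Finite Γ] (hc : 2 ^ n ≤ Nat.card (V g n 0)) {k : ℕ} (hk : k ≤ n) :
    Nat.card (V g n k) = 2 ^ (n - k) := by
  refine le_antisymm (h.card_le hk) ?_
  have h1 := hc.trans (h.steps 0 k (by omega))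
  rw [zero_add] at h1
  refine Nat.le_of_mul_le_mul_left ?_ (Nat.two_pow_pos k)
  rwa [← pow_add, Nat.add_sub_cancel' hk]

/-- **the order of the commutator factor group** -/
theorem index [Finite Γ] (hc : 2 ^ n ≤ Nat.card (V g n 0)) : (_root_.commutator (V g n 0)).index = 2 ^ m := by
  have h1 : Nat.card (_root_.commutator (V g n 0)) = 2 ^ (n - m) := by
    rw [← h.card_eq hc h.le, ← h.comm_eq, ← map_subtype_commutator, card_map_of_injective (subtype_injective _)]
  have h2 := card_mul_index (_root_.commutator (V g n 0))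
  rw [h1, h.card_eq hc (Nat.zero_le n), Nat.sub_zero] at h2
  refine Nat.eq_of_mul_eq_mul_left (Nat.two_pow_pos (n - m)) ?_
  rw [h2, ← pow_add, Nat.sub_add_cancel h.le]

/-- the form for a subgroup which is known -/
theorem index_of [Finite Γ] {P : Subgroup Γ} (hP : P ≤ V g n 0) (hc : Nat.card P = 2 ^ n) :
    P = V g n 0 ∧ (_root_.commutator P).index = 2 ^ m := by
  have h1 : P = V g n 0 := eq_of_le_of_card_ge hP (by rw [hc]; exact h.card_le (Nat.zero_le n))
  subst h1
  exact ⟨rfl, h.index hc.ge⟩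

end PC

/-! ### certificates -/

/-- the words for the members of the sequence and the right hand sides of the relations -/
structure Cert where
  gw : List (List ℕ)
  sq : List (List ℕ)
  cm : List (List (List ℕ))
  dv : List (List ℕ × List ℕ × List ℕ)

/-- the members of the sequence -/
def Cert.el (c : Cert) (y : ℕ → Γ) (i : ℕ) : Γ := ev y (c.gw.getD i [])

/-- the expansion of a word -/
def Cert.ex (c : Cert) (w : List ℕ) : List ℕ := w.flatMap fun i => c.gw.getD i []

theorem Cert.ev_ex (c : Cert) (y : ℕ → Γ) : ∀ w, ev y (c.ex w) = ev (c.el y) w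
  | [] => rfl
  | a :: w => by rw [ev_cons, ← Cert.ev_ex c y w, Cert.ex, List.flatMap_cons, ev_append]; rfl

/-- the letters are in the range -/
def inR (k n : ℕ) (w : List ℕ) : Bool := w.all fun i => Nat.ble k i && Nat.blt i n

theorem inR_mem {k : ℕ} {w : List ℕ} (h : inR k n w = true) : ev g w ∈ V g n k :=
  ev_mem fun i hi => by
    have h1 := List.all_eq_true.1 h i hi
    rw [Bool.and_eq_true, Nat.ble_eq, Nat.blt_eq] at h1
    exact mem_V h1.1 h1.2

/-- the relations for the member `i` -/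
def chk1 (eqv : List ℕ → List ℕ → Bool) (n m : ℕ) (c : Cert) (i : ℕ) : Bool :=
  (inR (i + 1) n (c.sq.getD i []) && eqv (c.ex [i, i]) (c.ex (c.sq.getD i []))) &&
    ((List.range n).all fun j => Nat.ble j i || (inR (max m (i + 1)) n ((c.cm.getD i []).getD j []) &&
      eqv (c.ex [i, j]) (c.ex ((c.cm.getD i []).getD j [] ++ [j, i])))) &&
    (Nat.blt i m || (inR 0 n (c.dv.getD i ([], [], [])).1 && inR 0 n (c.dv.getD i ([], [], [])).2.1 &&
      inR (i + 1) n (c.dv.getD i ([], [], [])).2.2 &&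
      eqv (c.ex ((c.dv.getD i ([], [], [])).1 ++ (c.dv.getD i ([], [], [])).2.1))
        (c.ex (i :: ((c.dv.getD i ([], [], [])).2.2 ++ ((c.dv.getD i ([], [], [])).2.1 ++
          (c.dv.getD i ([], [], [])).1))))))

theorem pc_of_chk {y : ℕ → Γ} {eqv : List ℕ → List ℕ → Bool} (he : ∀ v w, eqv v w = true → ev y v = ev y w)
    {c : Cert} (hm : m ≤ n) (h : ∀ i < n, chk1 eqv n m c i = true) : PC (c.el y) n m := by
  have he' : ∀ {v w}, eqv (c.ex v) (c.ex w) = true → ev (c.el y) v = ev (c.el y) w := fun h1 => by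
    rw [← c.ev_ex, ← c.ev_ex]
    exact he _ _ h1
  simp only [chk1, Bool.and_eq_true, Bool.or_eq_true, List.all_eq_true, List.mem_range, Nat.ble_eq, Nat.blt_eq] at h
  refine ⟨hm, fun i hi => ?_, fun i j hij hj => ?_, fun j h1 hj => ?_⟩
  · obtain ⟨⟨⟨h1, h2⟩, -⟩, -⟩ := h i hi
    have h3 := he' h2
    rw [ev_cons, ev_cons, ev_nil, mul_one] at h3
    rw [h3]
    exact inR_mem h1
  · obtain ⟨h1, h2⟩ := ((h i (hij.trans hj)).1.2 j hj).resolve_left (by omega)
    have h3 := he' h2
    rw [ev_append, ev_cons, ev_cons, ev_cons, ev_cons, ev_nil, mul_one, mul_one] at h3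
    rw [commutatorElement_def, h3, mul_assoc, mul_assoc, mul_assoc, mul_inv_cancel_left, mul_inv_cancel, mul_one]
    exact inR_mem h1
  · obtain ⟨⟨⟨h2, h3⟩, h4⟩, h5⟩ := (h j hj).2.resolve_left (by omega)
    have h6 := he' h5
    rw [ev_append, ev_cons, ev_append, ev_append] at h6
    generalize c.dv.getD j ([], [], []) = d at h2 h3 h4 h6
    have e : c.el y j = ⁅ev (c.el y) d.1, ev (c.el y) d.2.1⁆ * (ev (c.el y) d.2.2)⁻¹ := by
      rw [commutatorElement_def, h6]
      group
    rw [e]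
    exact mul_mem (mem_sup_left (commutator_mem_commutator (inR_mem h2) (inR_mem h3)))
      (mem_sup_right (inv_mem (inR_mem h4)))

end Cfsg.Agent.MK.S.Pc
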