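import Cfsg.Agent.MK.S.Defs
import Cfsg.Agent.ODD.Cov.Basic
import Cfsg.Agent.S2034
import Cfsg.Agent.S2035
import Cfsg.Agent.S2036
import Cfsg.Agent.S2037
import Cfsg.Agent.S2038
import Cfsg.Agent.S2039
import Cfsg.Agent.S2040
import Cfsg.Agent.S2041
import Cfsg.Agent.S2042
import Cfsg.Agent.S2043
import Cfsg.Agent.S2044
import Cfsg.Agent.S2045
import Cfsg.Agent.S2046
import Cfsg.Agent.S2047
import Cfsg.Agent.S2048
import Cfsg.Agent.S2049
import Cfsg.Agent.S2050
import Cfsg.Agent.S2051
import Cfsg.Agent.S2052
import Cfsg.Agent.S2053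
import Cfsg.Agent.S2054
import Cfsg.Agent.S2055
import Cfsg.Agent.S2056
import Cfsg.Agent.S2057
import Cfsg.Agent.S2058
import Cfsg.Agent.S2059
import Cfsg.Agent.MK.S.Congr

/-!
# MK: the sporadic row from the small rows (helper47)
-/

set_option autoImplicit false

namespace Cfsg.Agent.MK.S

open Cfsg Cfsg.Spor Subgroup Cfsg.Agent.ODD

/-- **`Box.spor` from the small rows.** -/
theorem row_spor (hs : StepSm) (h : SporIn) : Row fun S _ => IsSporadicGroup S := by
  intro X _ _ c Γ s
  rcases c.fam with e | e | e | e | e | e | e | ⟨F, _, _, ω, hF, hω, e⟩ | e | e | e | e | e | e | e | e | e | e | e | e |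
    e | e | e | e | e | e
  · exact gd_of_two hs c s e (k := 0) S2034.result h.m11
  · exact gd_of_two hs c s e (k := 1) S2035.result h.m12
  · exact gd_of_three hs c s e (k := 2) S2036.result (by norm_num) h.m22 h.m223
  · exact gd_of_two hs c s e (k := 0) S2037.result h.m23
  · exact gd_of_two hs c s e (k := 0) S2038.result h.m24
  · exact gd_of_two hs c s e (k := 0) S2039.result h.j1
  · exact gd_of_two hs c s e (k := 1) S2040.result h.j2
  · exact gd_of_three hs c s e (k := 0) (S2041.result hF ω hω) (by norm_num) (h.j3 F ω hF hω) (h.j33 F ω hF hω)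
  · exact gd_of_two hs c s e (k := 0) S2042.result h.j4
  · exact gd_of_two hs c s e (k := 1) S2043.result h.co1
  · exact gd_of_two hs c s e (k := 0) S2044.result h.co2
  · exact gd_of_two hs c s e (k := 0) S2045.result h.co3
  · exact gd_of_three hs c s e (k := 0) S2047.result (by norm_num) h.mcl h.mcl3
  · exact gd_of_two hs c s e (k := 1) S2046.result h.hs
  · exact gd_of_three hs c s e (k := 1) S2048.result (by norm_num) h.suz h.suz3
  · exact gd_of_two hs c s e (k := 0) S2049.result h.he
  · exact gd_of_two hs c s e (k := 1) S2051.result h.ru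
  · exact gd_of_three hs c s e (k := 0) S2052.result (by norm_num) h.on h.on3
  · exact gd_of_two hs c s e (k := 0) S2050.result h.ly
  · exact gd_of_three hs c s e (k := 1) S2053.result (by norm_num) h.fi22 h.fi223
  · exact gd_of_two hs c s e (k := 0) S2054.result h.fi23
  · exact gd_of_three hs c s e (k := 0) S2055.result (by norm_num) h.fi24 h.fi243
  · exact gd_of_two hs c s e (k := 0) S2056.result h.hn
  · exact gd_of_two hs c s e (k := 0) S2057.result h.th
  · exact gd_of_two hs c s e (k := 1) S2058.result h.b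
  · exact gd_of_two hs c s e (k := 0) S2059.result h.m

end Cfsg.Agent.MK.S
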