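import Cfsg.Agent.MK.T.A
import Cfsg.Agent.TAB.Sm2.Tits

/-!
# MK: the irreducible characters of odd degree of the Tits group are invariant under all automorphisms (helper47)
-/

set_option autoImplicit false
set_option maxRecDepth 100000

namespace Cfsg.Agent.MK.S

open Cfsg Cfsg.Agent.MK.T Cfsg.Agent.TAB.Eng Cfsg.Agent.TAB.Use Cfsg.Agent.Characters Cfsg.Agent.Characters.Core
open scoped ComplexConjugate

/-- if the other characters of the same degree are fixed, the character is fixed -/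
theorem fix_of_others {G : Type} [Group G] {n : ℕ} {d : ℕ → ℕ} {χ : ℕ → G → ℂ} (hE : Enum G n d χ) (α : MulAut G)
    {j : ℕ} (hj : j < n) (h : ∀ i < n, d i = d j → i ≠ j → ∀ x, χ i (α x) = χ i x) (x : G) : χ j (α x) = χ j x := by
  obtain ⟨i, hi, h1, h2⟩ := enum_perm hE α hj
  by_cases h3 : i = j
  · rw [h2, h3]
  · refine absurd (hE.inj i hi j hj (funext fun y => ?_)) h3
    obtain ⟨z, rfl⟩ := α.surjective y
    rw [h i hi h1 h3, h2]

namespace Tits

open Cfsg.Agent.TAB.Sm2 Cfsg.Agent.TAB.Sm2.Tits Cfsg.Agent.Characters.Brauer Cfsg.Agent.H447.CTab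

/-- the exterior square (the proof is the one of `Core.ext`) -/
theorem ext' {G : Type} [Group G] [Finite G] {T : TD G dat} (h : Tits.Core T) {χ : G → ℂ} (h1 : IsIrrCharacter G χ)
    (h2 : PM T χ ca cb) : IsIrrCharacter G (-fun g => (χ (g ^ 2) - χ g ^ 2) / ((2 : ℕ) : ℂ)) ∧
      PM T (-fun g => (χ (g ^ 2) - χ g ^ 2) / ((2 : ℕ) : ℂ)) la cb := by
  have := Fintype.ofFinite G
  have h3 : PM T (-fun g => (χ (g ^ 2) - χ g ^ 2) / (2 : ℕ)) la cb := fun g => by
    have h4 : ∀ t < dat.n, 2 * nth la t = nth ca t * nth ca t - nth cb t * nth cb t - nth ca (dat.pwf t 2) ∧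
      ((nth cb (dat.pwf t 2) = 0 ∧ nth ca t * nth cb t = -nth cb t) ∨
        (nth ca t * nth cb t = 0 ∧ nth cb (dat.pwf t 2) = 2 * nth cb t)) := by decide +kernel
    obtain ⟨h5, h6⟩ := h4 _ (T.lt g)
    have h7 := h2 g
    have h8 := h2 (g ^ 2)
    rw [T.pow] at h8
    have h9 := congrArg (Int.cast : ℤ → ℂ) h5
    rw [Pi.neg_apply]
    rcases h6 with ⟨a1, a2⟩ | ⟨a1, a2⟩ <;> have a3 := congrArg (Int.cast : ℤ → ℂ) a1 <;>
      have a4 := congrArg (Int.cast : ℤ → ℂ) a2 <;> push_cast at h9 a3 a4 ⊢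
    · rw [a3, zero_mul, add_zero, sub_zero, or_self] at h8
      rcases h7 with h7 | h7 <;> [right; left] <;> rw [h7, h8]
      · linear_combination (-1 / 2) * h9 + Complex.I * a4 + (nth cb (T.ty g) : ℂ) ^ 2 / 2 * Complex.I_sq
      · linear_combination (-1 / 2) * h9 - Complex.I * a4 + (nth cb (T.ty g) : ℂ) ^ 2 / 2 * Complex.I_sq
    · rcases h8 with h8 | h8 <;> [right; left] <;> rcases h7 with h7 | h7 <;> rw [h7, h8, a4]
      · linear_combination (-1 / 2) * h9 + Complex.I * a3 + (nth cb (T.ty g) : ℂ) ^ 2 / 2 * Complex.I_sq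
      · linear_combination (-1 / 2) * h9 - Complex.I * a3 + (nth cb (T.ty g) : ℂ) ^ 2 / 2 * Complex.I_sq
      · linear_combination (-1 / 2) * h9 + Complex.I * a3 + (nth cb (T.ty g) : ℂ) ^ 2 / 2 * Complex.I_sq
      · linear_combination (-1 / 2) * h9 - Complex.I * a3 + (nth cb (T.ty g) : ℂ) ^ 2 / 2 * Complex.I_sq
  have h4 := gen_delta (isGeneralizedCharacter_of_isCharacter (isIrr_isCharacter h1)) Nat.prime_two
  generalize (fun g => (χ (g ^ 2) - χ g ^ 2) / ((2 : ℕ) : ℂ)) = ψ at h3 h4 ⊢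
  have h5 : classInner ψ ψ = 1 := by
    have h6 : ∀ g, ψ g * conj (ψ g) = ((nth la (T.ty g) * nth la (T.ty g) + nth cb (T.ty g) * nth cb (T.ty g) : ℤ) : ℂ) :=
      fun g => by
        rcases h3 g with h6 | h6 <;> rw [Pi.neg_apply, neg_eq_iff_eq_neg] at h6 <;> rw [h6] <;>
          simp only [map_neg, map_add, map_sub, map_mul, map_intCast, Complex.conj_I] <;> push_cast <;>
          linear_combination (-(nth cb (T.ty g) : ℂ) ^ 2) * Complex.I_sq
    have h7 : ∑ t ∈ Finset.range dat.n, dat.cnt t • (nth la t * nth la t + nth cb t * nth cb t) = dat.N := by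
      decide +kernel
    rw [classInner_def, Finset.sum_congr rfl fun g _ => h6 g, ← Int.cast_sum,
      sum_mass h.mass fun t => nth la t * nth la t + nth cb t * nth cb t, h7, ← h.mass.1, Int.cast_natCast,
      inv_mul_cancel₀ card_ne_zero_complex]
  refine ⟨(isIrr_of_generalized h4 h5).resolve_left fun h6 => ?_, h3⟩
  obtain ⟨n, -, hn⟩ := isIrr_apply_one h6
  have h7 := h3.sum 1
  have h8 : ∀ t < dat.n, 1 = dat.ord t → nth la t = 351 := by decide +kernel
  rw [h8 _ (T.lt 1) (orderOf_one.symm.trans (T.ord 1)), Pi.neg_apply, hn, map_neg, Complex.conj_natCast] at h7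
  have h9 : -(n : ℤ) + -n = 2 * 351 := by exact_mod_cast h7
  omega

theorem fix_of {G : Type} [Group G] [Finite G] {T : TD G dat} (h : Tits.Core T) {ψ : G → ℂ} (hψ : IsIrrCharacter G ψ)
    (hd : ψ 1 = 27) (α : MulAut G) (hα : ∀ x, ψ (α x) = ψ x) (θ : G → ℂ) (hθ : OI G θ) (x : G) : θ (α x) = θ x := by
  obtain ⟨χ, hE, hR⟩ := h.tab
  obtain ⟨j, hj, rfl⟩ := hE.all θ hθ.1
  have ho := hθ.2
  rw [hE.charDegree_eq hj, Nat.odd_iff] at ho
  obtain ⟨a, ha, rfl⟩ := hE.all ψ hψ
  have h1 : (mkRows rA rB).d a = 27 := by exact_mod_cast (hE.deg a ha).symm.trans hd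
  have h2 : ∀ a < (mkRows rA rB).n, (mkRows rA rB).d a = 27 → a = 10 ∨ a = 11 := by decide +kernel
  obtain ⟨ψ, h3, h4⟩ := h.chi
  have h5 := pair_eq hE hR (j := 10) (k := 11) (w := rB.getD 1 []) (by decide +kernel) (by decide +kernel)
    (by decide +kernel) h3 h4 (by decide +kernel)
  have h6 : PM T (χ a) ca cb := by
    rcases h2 a ha h1 with rfl | rfl
    exacts [h5.1, h5.2]
  obtain ⟨h7, h8⟩ := ext' h hψ h6
  have h9 : ∀ x, (-fun g => (χ a (g ^ 2) - χ a g ^ 2) / ((2 : ℕ) : ℂ)) (α x) =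
      (-fun g => (χ a (g ^ 2) - χ a g ^ 2) / ((2 : ℕ) : ℂ)) x := fun x => by
    simp only [Pi.neg_apply]
    rw [← map_pow, hα, hα]
  generalize (-fun g => (χ a (g ^ 2) - χ a g ^ 2) / ((2 : ℕ) : ℂ)) = φ at h7 h8 h9
  obtain ⟨c, hc, h10⟩ := hE.all _ (isIrr_conj h7)
  obtain ⟨b, hb, rfl⟩ := hE.all φ h7
  have h11 : ∀ x, χ c (α x) = χ c x := fun x => by
    rw [← h10]
    exact congrArg conj (h9 x)
  have h12 : b ≠ c := by
    rintro rfl
    obtain ⟨g, hg⟩ := h.inh 14 (by decide)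
    exact h8.ne (g := g) (by rw [hg]; decide) (σ := starRingAut) Complex.conj_I (congrFun h10 g)
  have h13 : (mkRows rA rB).d b = 351 := by
    have h14 := h8.sum 1
    have h15 : ∀ t < dat.n, 1 = dat.ord t → nth la t = 351 := by decide +kernel
    rw [h15 _ (T.lt 1) (orderOf_one.symm.trans (T.ord 1)), hE.deg b hb, Complex.conj_natCast] at h14
    have h16 : ((mkRows rA rB).d b : ℤ) + (mkRows rA rB).d b = 2 * 351 := by exact_mod_cast h14
    omega
  have h14 : (mkRows rA rB).d c = 351 := by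
    have h15 := congrFun h10 1
    simp only [hE.deg b hb, hE.deg c hc, Complex.conj_natCast, Nat.cast_inj] at h15
    rw [← h15, h13]
  have h15 : ∀ a < (mkRows rA rB).n, (mkRows rA rB).d a = 351 → a = 4 ∨ a = 12 ∨ a = 13 := by decide +kernel
  have h16 : ∀ j < (mkRows rA rB).n, (mkRows rA rB).d j % 2 = 1 → (mkRows rA rB).d j = 27 ∨
      (mkRows rA rB).d j = 351 ∨ ∀ i < (mkRows rA rB).n, (mkRows rA rB).d i = (mkRows rA rB).d j → i = j := by
    decide +kernel
  rcases h16 j hj ho with h17 | h17 | h17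
  · by_cases h18 : j = a
    · rw [h18, hα]
    · refine fix_of_others hE α hj (fun i hi h19 h20 => ?_) x
      have h21 := h2 a ha h1
      have h22 := h2 j hj h17
      have h23 := h2 i hi (h19.trans h17)
      rwa [show i = a by omega]
  · by_cases h18 : j = b
    · rw [h18, h9]
    by_cases h19 : j = c
    · rw [h19, h11]
    refine fix_of_others hE α hj (fun i hi h20 h21 => ?_) x
    have h22 := h15 b hb h13
    have h23 := h15 c hc h14
    have h24 := h15 j hj h17
    have h25 := h15 i hi (h20.trans h17)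
    rcases (show i = b ∨ i = c by omega) with rfl | rfl
    exacts [h9, h11]
  · exact enum_fix hE α hj h17 x

theorem finite_TN : Finite TN := finite_of ⟨(exists_iso isoTits).some.symm⟩

theorem k0_TN : k0 TN = 8 := by
  rw [k0_of_degList (deg_of ⟨(exists_iso isoTits).some.symm⟩)]
  decide +kernel

theorem f0_TN (α : MulAut TN) : f0 α = 8 := by
  have := finite_TN
  obtain ⟨T, hT⟩ := core_TN
  obtain ⟨-, ρ, -, h1, h2⟩ := exists_rho
  rw [f0_eq_of_all (fix_of hT h1 (by simp [trc]) α (h2 α)), k0_TN]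

end Tits

end Cfsg.Agent.MK.S
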