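import Cfsg.Agent.MK.S.TitsL
import Cfsg.Agent.MK.S.TitsG
import Cfsg.Agent.MK.S.Congr
import Cfsg.Agent.MK.T.B
import Cfsg.Agent.H768.SelfTits
import Cfsg.Agent.H829.Sd.Tits
import Cfsg.Agent.S2115

/-!
# MK: the row of the Tits group (helper47)
-/

set_option autoImplicit false
set_option maxRecDepth 10000
set_option maxHeartbeats 200000

namespace Cfsg.Agent.MK.S

open Cfsg Subgroup Cfsg.Agent.MK.T Cfsg.Agent.QTNorm Cfsg.Agent.ODD

/-- a group of index two in its automorphism group `A` -/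
theorem sm_of_over {A : Type} [Group A] [Finite A] (N : Subgroup A) [N.Normal]
    (hb : Function.Bijective (MulAut.conjNormal : A →* MulAut N)) (hZ : center N = ⊥) (hi : N.index = 2)
    (hS : SelfN N) {Y : Type} [Group Y] (f : Nonempty (N ≃* Y)) {a b : ℕ} (h0 : k0 Y = a) (h1 : a2 N = a)
    (h2 : ∀ α : MulAut Y, f0 α = b) (h5 : a2 A = 2 * b) : Sm N := by
  obtain ⟨f⟩ := f
  have e : A ≃* MulAut N := MulEquiv.ofBijective _ hb
  have h3 : (MulAut.conj : N →* MulAut N).range.index = 2 := by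
    have h4 := (MulAut.conj : N →* MulAut N).range.index_mul_card
    rw [← Nat.card_congr (MonoidHom.ofInjective (conj_inj hZ)).toEquiv, ← Nat.card_congr e.toEquiv,
      ← N.index_mul_card, hi] at h4
    exact Nat.eq_of_mul_eq_mul_right Nat.card_pos h4
  obtain ⟨α, -, h4⟩ := exists_out h3 default
  refine sm_of_self hZ h3 hS (by rw [k0_congr f, h0, h1]) h4 ?_
  rw [← a2_congr e, h5, f0_congr f (β := MulAut.congr f α) fun x => by simp [MulAut.congr], h2]

theorem center_simple {G : Type} [Group G] (hs : IsSimpleGroup G) (hc : ¬ IsMulCommutative G) : center G = ⊥ :=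
  ((inferInstance : (center G).Normal).eq_bot_or_eq_top).resolve_right fun h =>
    hc ⟨⟨fun a b => (mem_center_iff.1 (h ▸ mem_top b : b ∈ center G) a)⟩⟩

namespace Tits

open Cfsg.Agent.ChevalleyStructure.Tits.Main Cfsg.Agent.ChevalleyStructure.Tits.Order
  Cfsg.Agent.ChevalleyStructure.Tits.Final Cfsg.Agent.TAB.Sm2.Tits

theorem sm_T : Sm ↥(_root_.commutator H0) := by
  have := Omega.TwoF.TitsAut.fin_H0
  have hinj : Function.Injective (MulAut.conjNormal : H0 →* MulAut (_root_.commutator H0)) :=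
    Omega.TwoF.TitsAut.conj_injective Sat_yH gen_yH card_H0 card_V_yH (yH_ne_one (by norm_num))
      Omega.TwoF.TitsAut.yH7_sq core H0_result.2.2.1
  have h1 := center_simple H0_result.2.1 H0_result.2.2.1
  have h2 := H829.Sd.Tits.exists_conj
  exact sm_of_over (_root_.commutator H0) ⟨hinj, h2⟩ h1 H0_result.1 H768.SelfTits.selfN_H0 exists_rho.1 k0_TN a2_T
    f0_TN a2_H0

end Tits

theorem sm_comm {A : Type} [Group A] (K : Subgroup A) (h : Sm ↥(_root_.commutator K)) {S : Type} [Group S]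
    (hS : ∃ T : Subgroup A, T = K ∧ Nonempty (S ≃* _root_.commutator T)) : Sm S := by
  obtain ⟨T, rfl, ⟨e⟩⟩ := hS
  exact sm_congr e h

theorem sm_tits {S : Type} [Group S] (h : Lie.IsoTits S) : Sm S :=
  sm_comm _ Tits.sm_T (Omega.TwoF.TitsAut.exists_equiv h)

theorem tits : SmS Lie.TitsGroup := fun _ => sm_tits TAB.Sm2.Tits.isoTits

/-- **`Box.tits`** -/
theorem row_tits (hs : StepSm) : Row fun S _ => Lie.IsoTits S := by
  intro X _ _ c Γ s
  have e : Lie.IsoTits (X ⧸ center X) := c.fam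
  exact gd_of_two hs c s (G := Lie.TitsGroup) e (k := 0) S2115.result tits

end Cfsg.Agent.MK.S
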