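import Cfsg.Agent.MK.S.F4
import Cfsg.Agent.MK.Two.Row1

/-!
# MK: the field `Small.f42` (helper47)
-/

set_option autoImplicit false

namespace Cfsg.Agent.MK.S

open Cfsg Cfsg.Agent.MK.Two

theorem gdI_f42 (hs : StepSm) (F : Type) [Field F] [Fintype F] [CharP F 2] (hF : Fintype.card F = 2) :
    GdI (Lie.chevF4.group F) :=
  gdI_of_sm hs fun _ _ _ _ e _ => sm_f42 F hF e

theorem small_of (hs : StepSm)
    (h : ∀ (F : Type) [Field F] [Fintype F] [CharP F 2] (m : ℕ), 3 ≤ m → Fintype.card F = 2 → GdI (PSp m F)) : Small :=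
  ⟨h, gdI_f42 hs⟩

end Cfsg.Agent.MK.S
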