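import Cfsg.Agent.MK.S.Row
import Cfsg.Agent.MK.S1.Rows
import Cfsg.Agent.MK.S1.Cov
import Cfsg.Agent.MK.S2.J33
import Cfsg.Agent.MK.S2.HS
import Cfsg.Agent.MK.S3.McL
import Cfsg.Agent.MK.S3.Co
import Cfsg.Agent.MK.S4.He
import Cfsg.Agent.MK.S4.Ru
import Cfsg.Agent.MK.S4.Suz
import Cfsg.Agent.MK.S5.J1
import Cfsg.Agent.MK.S5.J4
import Cfsg.Agent.MK.S5.Ly
import Cfsg.Agent.MK.S5.ON3
import Cfsg.Agent.MK.S5.Th
import Cfsg.Agent.MK.S6.F22
import Cfsg.Agent.MK.S6.F23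
import Cfsg.Agent.MK.S7.Fi243
import Cfsg.Agent.MK.S8.B
import Cfsg.Agent.MK.S8.M
import Cfsg.Agent.MK.S8.HN

/-!
# MK: the sporadic rows, first part of the assembly (helper47)
-/

set_option autoImplicit false

namespace Cfsg.Agent.MK.S

open Cfsg Cfsg.Spor

theorem spor_of (suz3 : SmC Suz) (fi223 : SmC Fi22) : SporIn where
  m11 := S1.m11
  m12 := S1.m12
  m22 := S1.m22
  m223 := S1.m223
  m23 := S1.m23
  m24 := S1.m24
  j1 := S5.j1
  j2 := S2.j2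
  j3 := S2.j3
  j33 := S2.j33
  j4 := S5.j4
  co1 := S3.co1
  co2 := S3.co2
  co3 := S3.co3
  mcl := S3.mcl
  mcl3 := S3.mcl3
  hs := S2.hs
  suz := S4.suz
  suz3 := suz3
  he := S4.he
  ru := S4.ru
  on := S5.on
  on3 := S5.on3
  ly := S5.ly
  fi22 := S6.fi22
  fi223 := fi223
  fi23 := S6.fi23
  fi24 := S7.fi24
  fi243 := S7.fi243
  hn := S8.hn
  th := S5.th
  b := S8.b
  m := S8.m

theorem row_spor_of (hs : StepSm) (suz3 : SmC Suz) (fi223 : SmC Fi22) : Row fun S _ => IsSporadicGroup S :=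
  row_spor hs (spor_of suz3 fi223)

end Cfsg.Agent.MK.S
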