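import Cfsg.Agent.MK.T.A
import Cfsg.Agent.TAB.F42.G.Out
import Cfsg.Agent.Characters.GaloisIrr

/-!
# MK: the irreducible characters of odd degree of `F₄(2)` and the graph automorphism (helper47)
-/

set_option autoImplicit false
set_option maxRecDepth 100000
set_option maxHeartbeats 200000

namespace Cfsg.Agent.MK.S.F4

open Cfsg Cfsg.Agent.MK.T Cfsg.Agent.TAB.Eng Cfsg.Agent.TAB.Use Cfsg.Agent.TAB.F42 Cfsg.Agent.Characters

/-- the value of a rational character -/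
noncomputable def vl (j t : ℕ) : ℤ := (RR.rel.getD j ([], [])).2.getD t 0

/-- the fixed characters -/
def fx (j : ℕ) : Bool := [0, 1, 5, 21, 37, 38, 72, 86].contains j

theorem c1 : RR.n = 95 ∧ RR.rel.length = 92 ∧ ∀ j < 89, (RR.rel.getD j ([], [])).1 = [(j, 1)] := by decide +kernel

theorem c2 : ∀ j < 95, ∀ i < 95, fx j = false ∨ RR.d i ≠ RR.d j ∨ i = j ∨ (j < 89 ∧ i < 89 ∧ vl j 3 ≠ vl i 3) := by
  decide +kernel

theorem c3 : ∀ j < 95, RR.d j % 2 = 1 → fx j = false →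
    (j < 89 ∧ (vl j 2 ≠ vl j 1 ∨ vl j 9 ≠ vl j 8)) ∨ j = 93 ∨ j = 94 := by decide +kernel

theorem c4 : ∀ s < 92, (D.ord s = D.ord 1 → nth pY s = nth pY' 1 → s = 2) ∧
    (D.ord s = D.ord 3 → nth pY s = nth pY' 3 → s = 3) ∧ (D.ord s = D.ord 8 → nth pY s = nth pY' 8 → s = 9) ∧
    (17 = D.ord s → s = 77) := by decide +kernel

theorem c5 : RR.d 93 = 11609325 ∧ RR.d 94 = 11609325 ∧ D.cnt 77 = 389544306278400 := by decide +kernel

theorem c6 : ((List.range RR.n).countP fun j => RR.d j % 2 == 1 && fx j) = 8 ∧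
    ((List.range RR.n).countP fun j => RR.d j % 2 == 1) = 32 := by decide +kernel

variable {G : Type} [Group G] {T : TD G D}

/-- a character which is constant on the elements of order `p` -/
theorem val_int {χ : G → ℂ} (hχ : IsCharacter G χ) {p : ℕ} (hp : p.Prime) {x : G} (hx : orderOf x = p) {v : ℂ}
    (h : ∀ y, orderOf y = p → χ y = v) : ∃ m : ℕ, v = χ 1 - p * m := by
  classical
  obtain ⟨d, μ, -, h2, h3⟩ := GaloisBasic.isCharacter_exists_fin_pow hχ x hp.ne_zero (hx ▸ pow_orderOf_eq_one x)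
  obtain ⟨ω, hω⟩ : ∃ ω : ℂ, IsPrimitiveRoot ω p := ⟨_, Complex.isPrimitiveRoot_exp p hp.ne_zero⟩
  have h4 : ∀ k ∈ Finset.range p, χ (x ^ k) * ω ^ k = v * ω ^ k + if k = 0 then χ 1 - v else 0 := fun k hk => by
    split_ifs with h5
    · simp [h5]
    · rw [h _ ((Nat.Coprime.orderOf_pow (hx ▸ Nat.coprime_of_lt_prime h5 (Finset.mem_range.1 hk) hp)).trans hx),
        add_zero]
  have h5 : ∀ i, ∑ k ∈ Finset.range p, μ i ^ k * ω ^ k = p * if μ i * ω = 1 then 1 else 0 := fun i => by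
    simp only [← mul_pow]
    split_ifs with h6
    · simp [h6]
    · rw [geom_sum_eq h6, mul_pow, h2, hω.pow_eq_one]
      simp
  refine ⟨(Finset.univ.filter fun i => μ i * ω = 1).card, ?_⟩
  have h6 := Finset.sum_congr rfl h4
  rw [Finset.sum_add_distrib, ← Finset.mul_sum, hω.geom_sum_eq_zero hp.one_lt, Finset.sum_ite_eq',
    if_pos (Finset.mem_range.2 hp.pos)] at h6
  simp only [h3, Finset.sum_mul] at h6
  rw [Finset.sum_comm, Finset.sum_congr rfl fun i _ => h5 i, ← Finset.mul_sum, Finset.sum_boole] at h6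
  linear_combination h6

theorem norm_le [Finite G] (hm : T.Mass) {χ : G → ℂ} (hχ : IsIrrCharacter G χ) {t : ℕ} (ht : t < D.n) {v : ℂ}
    (h : ∀ y, T.ty y = t → χ y = v) : (D.cnt t : ℝ) * Complex.normSq v ≤ D.N := by
  have := Fintype.ofFinite G
  have h1 := (Core.classInner_self_eq_ofReal χ).symm.trans (Core.classInner_irr_self hχ)
  have h2 : (Nat.card G : ℝ) ≠ 0 := Nat.cast_ne_zero.2 Nat.card_pos.ne'
  rw [Complex.ofReal_eq_one, inv_mul_eq_one₀ h2] at h1
  have h3 := sum_mass hm fun s => if s = t then Complex.normSq v else 0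
  simp only [smul_ite, smul_zero, Finset.sum_ite_eq', if_pos (Finset.mem_range.2 ht), nsmul_eq_mul] at h3
  rw [← h3, ← hm.1, h1]
  refine Finset.sum_le_sum fun g _ => ?_
  split_ifs with h4
  · rw [h g h4]
  · exact Complex.normSq_nonneg _

theorem ty_77 {y : G} : T.ty y = 77 ↔ orderOf y = 17 :=
  ⟨fun h => (T.ord y).trans (by rw [h]; rfl), fun h => (c4 _ (T.lt _)).2.2.2 (h.symm.trans (T.ord y))⟩

theorem two_cls [Finite G] (hm : T.Mass) {a b x x' : G} (ha : orderOf a = 17) (hb : orderOf b = 17)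
    (hc : D.cnt 77 ≤ Nat.card {g // IsConj a g ∨ IsConj b g}) (hx : orderOf x = 17) (hx' : orderOf x' = 17)
    (hn : ¬ IsConj x x') (y : G) (hy : orderOf y = 17) : IsConj x y ∨ IsConj x' y := by
  have h1 : ∀ {a g : G}, orderOf a = 17 → IsConj a g → T.ty g = 77 := fun h1 h2 => by
    obtain ⟨c, rfl⟩ := isConj_iff.1 h2
    rw [ty_77, ← MulAut.conj_apply, MulEquiv.orderOf_eq, h1]
  have h2 : Function.Injective fun g : {g // IsConj a g ∨ IsConj b g} =>
      (⟨g.1, g.2.elim (h1 ha) (h1 hb)⟩ : {g // T.ty g = 77}) := fun a b h => Subtype.ext (congrArg Subtype.val h :)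
  have h3 := ((Nat.bijective_iff_injective_and_card _).2 ⟨h2, le_antisymm (Nat.card_le_card_of_injective _ h2)
    ((hm.2 77 (by decide)).le.trans hc)⟩).2
  have h4 : ∀ g, orderOf g = 17 → IsConj a g ∨ IsConj b g := fun g hg => by
    obtain ⟨u, hu⟩ := h3 ⟨g, ty_77.2 hg⟩
    have h5 : u.1 = g := congrArg Subtype.val hu
    exact h5 ▸ u.2
  rcases h4 x hx with h5 | h5 <;> rcases h4 x' hx' with h6 | h6 <;> rcases h4 y hy with h7 | h7
  all_goals first
    | exact absurd (h5.symm.trans h6) hn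
    | exact Or.inl (h5.symm.trans h7)
    | exact Or.inr (h6.symm.trans h7)

theorem row_eq {χ : ℕ → G → ℂ} (hR : Rel T RR χ) {j : ℕ} (hj : j < 89) (g : G) : χ j g = (vl j (T.ty g) : ℂ) := by
  refine hR.row ?_ (c1.2.2 j hj) g
  rw [List.getD_eq_getElem _ _ (by rw [c1.2.1]; omega)]
  exact List.getElem_mem _

theorem k0_gen (h : Hyp T) : k0 G = 32 := by
  obtain ⟨χ, hE, -⟩ := tab_of h
  rw [k0_enum hE, c6.2]

theorem f0_gen (h : Hyp T) (α : MulAut G) (h1 : ∀ g, nth pY (T.ty (α g)) = nth pY' (T.ty g)) {x : G}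
    (h2 : orderOf x = 17) (h3 : ∀ y, orderOf y = 17 → IsConj x y ∨ IsConj (α x) y) : f0 α = 8 := by
  have := h.finite
  obtain ⟨χ, hE, hR⟩ := tab_of h
  have hn := c1.1
  have ho' : ∀ g, D.ord (T.ty (α g)) = D.ord (T.ty g) := fun g => by rw [← T.ord, ← T.ord, α.orderOf_eq]
  obtain ⟨a, ha⟩ := h.inh 1 (by decide)
  obtain ⟨b, hb⟩ := h.inh 3 (by decide)
  obtain ⟨c, hc⟩ := h.inh 8 (by decide)
  have ha' : T.ty (α a) = 2 := (c4 _ (T.lt _)).1 (by rw [ho', ha]) (by rw [h1, ha])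
  have hb' : T.ty (α b) = 3 := (c4 _ (T.lt _)).2.1 (by rw [ho', hb]) (by rw [h1, hb])
  have hc' : T.ty (α c) = 9 := (c4 _ (T.lt _)).2.2.1 (by rw [ho', hc]) (by rw [h1, hc])
  have key : ∀ j < RR.n, RR.d j = 11609325 → ¬ ∀ y, χ j (α y) = χ j y := fun j hj hd h4 => by
    have h5 : ∀ y, orderOf y = 17 → χ j y = χ j x := fun y hy => by
      rcases h3 y hy with h6 | h6
      · exact (GaloisIrr.isConj_iff_forall_irr.1 h6 _ (hE.irr j hj)).symm
      · exact (GaloisIrr.isConj_iff_forall_irr.1 h6 _ (hE.irr j hj)).symm.trans (h4 x)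
    obtain ⟨m, hm⟩ := val_int (Core.isIrr_isCharacter (hE.irr j hj)) (by norm_num) h2 h5
    have h6 := norm_le h.1 (hE.irr j hj) (t := 77) (by decide) fun y hy => h5 y (ty_77.1 hy)
    have h7 : χ j x = ((11609325 - 17 * m : ℤ) : ℂ) := by
      rw [hm, hE.deg j hj, hd]
      push_cast
      rfl
    rw [h7, Complex.normSq_intCast, c5.2.2, show D.N = 3311126603366400 from rfl] at h6
    have h8 : (389544306278400 : ℤ) * ((11609325 - 17 * m) * (11609325 - 17 * m)) ≤ 3311126603366400 := by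
      exact_mod_cast h6
    have h9 : (11609325 - 17 * m : ℤ) ≤ -8 ∨ 8 ≤ (11609325 - 17 * m : ℤ) := by omega
    generalize (11609325 - 17 * m : ℤ) = z at h8 h9
    rcases h9 with h9 | h9 <;> nlinarith
  rw [f0_enum hE (q := fx) fun j hj hd => ⟨fun h4 => ?_, fun h4 y => ?_⟩, c6.1]
  · by_contra h5
    rcases c3 j (hn ▸ hj) (Nat.odd_iff.1 hd) (Bool.eq_false_iff.2 h5) with ⟨h6, h7 | h7⟩ | rfl | rfl
    · have h8 := h4 a
      rw [row_eq hR h6, row_eq hR h6, ha, ha'] at h8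
      exact h7 (by exact_mod_cast h8)
    · have h8 := h4 c
      rw [row_eq hR h6, row_eq hR h6, hc, hc'] at h8
      exact h7 (by exact_mod_cast h8)
    · exact key _ hj c5.1 h4
    · exact key _ hj c5.2.1 h4
  · obtain ⟨i, hi, h7, h8⟩ := enum_perm hE α hj
    rcases c2 j (hn ▸ hj) i (hn ▸ hi) with h5 | h5 | rfl | ⟨h5, h9, h10⟩
    · exact absurd h4 (Bool.eq_false_iff.1 h5)
    · exact absurd h7 h5
    · exact h8 y
    · have h11 := h8 b
      rw [row_eq hR h5, row_eq hR h9, hb, hb'] at h11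
      exact absurd (by exact_mod_cast h11) h10

open Cfsg.Agent.FourTwo.Base Cfsg.Agent.TAB.F42.G Cfsg.Agent.TAB.Co

theorem exists_T : ∃ T : TD LL D, Hyp T ∧ ∀ g, nth pY (T.ty (gam g)) = nth pY' (T.ty g) := by
  have := finite_LL
  obtain ⟨T, hm, hV⟩ := exists_cls (K := key) (D := D) (val := val) (by decide +kernel) (by decide +kernel)
    (by decide +kernel) card_LL (V := VV) (fun _ _ _ hv hc => hv.conj hc) good_all
  exact ⟨T, ⟨hm, (orb_of T (MonoidHom.id LL) prX (Ns := []) (fun g => (hV g).1) (by simp)).virt,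
    orb_Y T (MonoidHom.id LL) fun g => (hV g).2.1, orb_Y T gam.toMonoidHom fun g => (hV g).2.2⟩,
    fun g => (hV (gam g)).2.1.1.symm.trans (hV g).2.2.1⟩

/-- an element of order `17` -/
def w17 : List ℕ := [14, 20, 4, 22, 47, 23]

/-- the test which separates the two classes -/
def p17 : List ℕ := [80, 80, 16467, 16595, 32851, 464, 211, 1187905]

theorem c7 : wdF w17 (fun R => pwF R 17 oneB && !oneB R && psF R [] p17 28634430) = true ∧
    psF unR [] prX 28634430 = true ∧ wdF (w17.map bar) (cX p17) = 0 := by decide +kernel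

theorem x17 : orderOf (wd w17) = 17 ∧ ¬ IsConj (wd w17) (gam (wd w17)) := by
  obtain ⟨h1, h2, h3⟩ := c7
  obtain ⟨R, hR, e1⟩ := wdF_spec w17
  obtain ⟨R', hR', e2⟩ := wdF_spec (w17.map bar)
  obtain ⟨O, hO, e3⟩ := pwF_spec hR 17
  rw [e1, e3, Bool.and_eq_true, Bool.and_eq_true, oneB_iff hO, Bool.not_eq_true', Bool.eq_false_iff, Ne,
    oneB_iff hR] at h1
  rw [e2, cX] at h3
  rw [← gam_wd w17 (by decide)] at hR'
  have : Fact (Nat.Prime 17) := ⟨by norm_num⟩
  exact ⟨orderOf_eq_prime h1.1.1 h1.1.2, not_conj' lanesX (by norm_num) hR hR' (by norm_num) h2 h1.2 h3⟩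

theorem g17 : ∃ a b : LL, orderOf a = 17 ∧ orderOf b = 17 ∧ D.cnt 77 ≤ Nat.card {g // IsConj a g ∨ IsConj b g} := by
  obtain ⟨a, b, h1, h2, h3, -⟩ := g77
  exact ⟨a, b, h1.1, h2.1, h3⟩

end Cfsg.Agent.MK.S.F4
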