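import Cfsg.Agent.MK.S.F4L
import Cfsg.Agent.MK.S.F4G
import Cfsg.Agent.MK.S.Congr
import Cfsg.Agent.MK.T.B
import Cfsg.Agent.S1054

/-!
# MK: the small row of `F₄(2)` (helper47)
-/

set_option autoImplicit false
set_option maxRecDepth 100000
set_option maxHeartbeats 200000

namespace Cfsg.Agent.MK.S

open Cfsg Cfsg.Lie Subgroup Cfsg.Agent.MK.T Cfsg.Agent.MK.S.Pc Cfsg.Agent.QTNorm Cfsg.Agent.TAB.Eng Cfsg.Agent.TAB.F42
open Cfsg.Agent.FourTwo Cfsg.Agent.FourTwo.Base Cfsg.Agent.TAB.F42.G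

namespace F4

theorem sm_gen {A : Type} [Group A] (H : Subgroup A) [Finite H] {y : ℕ → H} (γ : H ≃* H)
    (hs : IsSimpleGroup H ∧ ¬ IsMulCommutative H) (hi : AutF4.outIndex H = 2) (h1 : ∀ r < 48, γ (y r) = y (bar r))
    (h2 : ∀ g, γ (γ g) = g) (h3 : ¬ ∃ g : H, ∀ h, γ h = g * h * g⁻¹)
    (he : ∀ v w, eqv v w = true → ev y v = ev y w) {U : Subgroup H} (h4 : Nat.card U = 2 ^ 24)
    (h5 : Nat.card H = 2 ^ 24 * 197358525) (h6 : ∀ K : Subgroup H, (∀ i < 24, y (24 + i) ∈ K) → U ≤ K)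
    (hU : ¬ 2 ∣ U.index) (hN : normalizer (U : Set H) = U)
    (hT : ∃ T : TD H D, Hyp T ∧ ∀ g, nth pY (T.ty (γ g)) = nth pY' (T.ty g)) {x : H}
    (hx : orderOf x = 17 ∧ ¬ IsConj x (γ x))
    (hc : ∃ a b : H, orderOf a = 17 ∧ orderOf b = 17 ∧ D.cnt 77 ≤ Nat.card {g // IsConj a g ∨ IsConj b g}) :
    Sm H := by
  have := two_prime
  obtain ⟨T, hT, hY⟩ := hT
  obtain ⟨a, b, ha, hb, hc⟩ := hc
  have := hs.1
  have hZ : center H = ⊥ := (inferInstance : (center H).Normal).eq_bot_or_eq_top.resolve_right fun h =>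
    hs.2 ⟨⟨fun a b => (mem_center_iff.1 (h ▸ mem_top b : b ∈ center H) a)⟩⟩
  obtain ⟨h7, h8⟩ := a2_gen (γ := γ) hZ hi h1 h2 h3 he h4 h5 h6
  have h9 := f0_gen hT γ hY hx.1 (two_cls hT.1 ha hb hc hx.1 ((γ.orderOf_eq x).trans hx.1) hx.2)
  exact sm_of_self hZ hi (SelfN.of_one ((IsPGroup.of_card h4).toSylow hU) hN.le) ((k0_gen hT).trans h7.symm)
    (out_of h3) (by rw [h8, h9])

theorem sm_LL : Sm LL := by
  have := finite_LL
  exact sm_gen (chevF4.group (ZMod 2)) AutF4.gam (S1054.result chevF4 (by simp)) AutF4.index_inn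
    (fun _ => AutF4.gam_x) AutF4.gam_gam AutF4.gam_not_inner eqv_spec AutF4.card_U card_eq U_le AutF4.index_U
    AutF4.normalizer_U exists_T x17 g17

theorem sm_iso {G H : Type} [Group G] [Group H] (h : Sm G) (e : Nonempty (G ≃* H)) {X : Type} [Group X] (f : X ≃* H) :
    Sm X := by
  obtain ⟨e⟩ := e
  exact sm_congr (f.trans e.symm) h

end F4

/-- **`F₄(2)`** -/
theorem sm_f42 (F : Type) [Field F] [Fintype F] (hF : Fintype.card F = 2) {X : Type} [Group X]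
    (e : X ≃* ↥(chevF4.group F)) : Sm X := F4.sm_iso F4.sm_LL (iso F hF) e

theorem f42 (F : Type) [Field F] [Fintype F] (hF : Fintype.card F = 2) : SmS ↥(chevF4.group F) :=
  fun _ => sm_f42 F hF (MulEquiv.refl _)

end Cfsg.Agent.MK.S
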