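import Cfsg.Agent.MK.S.Pc
import Cfsg.Agent.MK.T.A
import Cfsg.Agent.FourTwo.AutF4
import Cfsg.Agent.TAB.F42.G.Asm

/-!
# MK: polycyclic certificates for the Sylow `2`-subgroups of `F₄(2)` and of its automorphism group (helper47)
-/

set_option autoImplicit false
set_option maxRecDepth 100000
set_option maxHeartbeats 400000

namespace Cfsg.Agent.MK.S.F4

open Cfsg Subgroup Cfsg.Agent.MK.T Cfsg.Agent.MK.S.Pc

section

variable {G : Type} [Group G]

theorem two_mul_le [Finite G] {H K : Subgroup G} (h : H ≤ K) {a : G} (h1 : a ∈ K) (h2 : a ∉ H) :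
    2 * Nat.card H ≤ Nat.card K := by
  obtain ⟨c, hc⟩ := card_dvd_of_le h
  have h3 : c ≠ 0 := fun h4 => (Nat.card_pos (α := K)).ne' (by rw [hc, h4, mul_zero])
  have h4 : c ≠ 1 := fun h4 => h2 (eq_of_le_of_card_ge h (by rw [hc, h4, mul_one]) ▸ h1)
  rw [hc, mul_comm]
  exact Nat.mul_le_mul_left _ (by omega)

/-- the letters: inner automorphisms and one more -/
def yA (x : ℕ → G) (γ : MulAut G) (r : ℕ) : MulAut G := if r = 48 then γ else MulAut.conj (x r)

/-- the inner part of a word -/
def nf (b : ℕ → ℕ) (w : List ℕ) : List ℕ := w.foldr (fun r v => bif Nat.beq r 48 then v.map b else r :: v) []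

/-- the parity of a word -/
def par (w : List ℕ) : Bool := w.foldr (fun r v => bif Nat.beq r 48 then !v else v) false

variable {x : ℕ → G} {γ : MulAut G} {b : ℕ → ℕ}

theorem map_ev (hb : ∀ r < 48, γ (x r) = x (b r)) : ∀ w : List ℕ, (∀ r ∈ w, r < 48) → γ (ev x w) = ev x (w.map b)
  | [], _ => map_one γ
  | r :: w, h => by
    rw [List.map_cons, ev_cons, ev_cons, map_mul, hb r (h r List.mem_cons_self),
      map_ev hb w fun s hs => h s (List.mem_cons_of_mem _ hs)]

theorem ev_nf (hb : ∀ r < 48, γ (x r) = x (b r)) (hl : ∀ r < 48, b r < 48) (hγ : γ * γ = 1) :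
    ∀ w : List ℕ, (∀ r ∈ w, r < 49) → (∀ r ∈ nf b w, r < 48) ∧
      ev (yA x γ) w = MulAut.conj (ev x (nf b w)) * (bif par w then γ else 1)
  | [], _ => ⟨fun _ h => (by cases h), by simp [ev_nil, nf, par]⟩
  | r :: w, h => by
    obtain ⟨h1, h2⟩ := ev_nf hb hl hγ w fun s hs => h s (List.mem_cons_of_mem _ hs)
    by_cases hr : r = 48
    · subst hr
      have e1 : nf b (48 :: w) = (nf b w).map b := rfl
      have e2 : par (48 :: w) = !par w := rfl
      have e3 : yA x γ 48 = γ := if_pos rfl
      rw [e1, e2, ev_cons, h2, e3, ← map_ev hb _ h1, conj_map]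
      refine ⟨fun s hs => ?_, ?_⟩
      · obtain ⟨t, ht, rfl⟩ := List.mem_map.1 hs
        exact hl t (h1 t ht)
      · cases par w
        · simp
        · rw [inv_eq_of_mul_eq_one_right hγ]
          simp [mul_assoc]
    · have e0 : Nat.beq r 48 = false := by
        rw [Bool.eq_false_iff, Ne, Nat.beq_eq]
        exact hr
      have e1 : nf b (r :: w) = r :: nf b w := by
        show (bif Nat.beq r 48 then _ else _) = _
        rw [e0]
        rfl
      have e2 : par (r :: w) = par w := by
        show (bif Nat.beq r 48 then _ else _) = _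
        rw [e0]
        rfl
      have e3 : yA x γ r = MulAut.conj (x r) := if_neg hr
      rw [e1, e2, ev_cons, ev_cons, h2, e3, map_mul, mul_assoc]
      refine ⟨fun s hs => ?_, rfl⟩
      rcases List.mem_cons.1 hs with rfl | hs
      · have := h s List.mem_cons_self
        omega
      · exact h1 s hs

/-- the test for words in the automorphism group -/
def eqA (b : ℕ → ℕ) (e : List ℕ → List ℕ → Bool) (v w : List ℕ) : Bool :=
  (v.all fun i => Nat.blt i 49) && (w.all fun i => Nat.blt i 49) && (par v == par w) && e (nf b v) (nf b w)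

theorem eqA_spec (hb : ∀ r < 48, γ (x r) = x (b r)) (hl : ∀ r < 48, b r < 48) (hγ : γ * γ = 1)
    {e : List ℕ → List ℕ → Bool} (he : ∀ v w, e v w = true → ev x v = ev x w) (v w : List ℕ)
    (h : eqA b e v w = true) : ev (yA x γ) v = ev (yA x γ) w := by
  simp only [eqA, Bool.and_eq_true, List.all_eq_true, Nat.blt_eq, beq_iff_eq] at h
  obtain ⟨⟨⟨h1, h2⟩, h3⟩, h4⟩ := h
  rw [(ev_nf hb hl hγ v h1).2, (ev_nf hb hl hγ w h2).2, h3, he _ _ h4]

theorem mem_of_word {Γ : Type} [Group Γ] {y : ℕ → Γ} {e : List ℕ → List ℕ → Bool}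
    (he : ∀ v w, e v w = true → ev y v = ev y w) {c : Cert} {n r : ℕ} {w : List ℕ} (h1 : inR 0 n w = true)
    (h2 : e [r] (c.ex w) = true) : y r ∈ V (c.el y) n 0 := by
  have h3 := he _ _ h2
  rw [ev_cons, ev_nil, mul_one, c.ev_ex] at h3
  rw [h3]
  exact inR_mem h1

theorem a2_of [Finite G] {P : Subgroup G} {n k m : ℕ} (h1 : Nat.card P = 2 ^ n) (h2 : Nat.card G = 2 ^ n * k)
    (hk : ¬ 2 ∣ k) (h3 : (_root_.commutator P).index = m) : a2 G = m := by
  have := two_prime
  have h4 : P.index = k := by
    have h5 := card_mul_index P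
    rw [h1, h2] at h5
    exact Nat.eq_of_mul_eq_mul_left (Nat.two_pow_pos n) h5
  rw [← ab_sylow ((IsPGroup.of_card h1).toSylow (h4 ▸ hk))]
  exact h3

/-- the automorphism group -/
theorem a2_aut [Finite G] (hZ : center G = ⊥) (hi : (MulAut.conj : G →* MulAut G).range.index = 2)
    (hn : γ ∉ (MulAut.conj : G →* MulAut G).range) {U : Subgroup G} {n k m : ℕ} (h1 : Nat.card U = 2 ^ n)
    (h2 : Nat.card G = 2 ^ n * k) (hk : ¬ 2 ∣ k) {g : ℕ → MulAut G} (h : PC g (n + 1) m)
    (h3 : U.map MulAut.conj ≤ V g (n + 1) 0) (h4 : γ ∈ V g (n + 1) 0) : a2 (MulAut G) = 2 ^ m := by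
  have h5 := two_mul_le h3 h4 fun h6 => hn (map_le_range _ _ h6)
  rw [card_map_of_injective (conj_inj hZ), h1, ← pow_succ'] at h5
  refine a2_of (h.card_eq h5 (Nat.zero_le _)) (k := k) ?_ hk (h.index h5)
  rw [← card_mul_index (MulAut.conj : G →* MulAut G).range, hi,
    ← Nat.card_congr (MonoidHom.ofInjective (conj_inj hZ)).toEquiv, h2, Nat.sub_zero, pow_succ, mul_right_comm]

end

open Cfsg.Agent.FourTwo Cfsg.Agent.FourTwo.Base Cfsg.Agent.TAB.F42.G

/-- the test for words -/
noncomputable def eqv (v w : List ℕ) : Bool := wdF (v ++ w.reverse) oneB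

theorem eqv_spec (v w : List ℕ) (h : eqv v w = true) : ev x v = ev x w := by
  obtain ⟨R, h1, h2⟩ := wdF_spec (v ++ w.reverse)
  rw [eqv, h2, oneB_iff h1, wd_append, wd_rev, mul_inv_eq_one] at h
  exact h

/-- the series of the Sylow subgroup -/
def cU : Cert where
  gw := [[33], [27], [25], [24], [28], [28, 30], [34], [26], [41], [31], [35], [29], [37], [36], [38], [32], [42],
    [39], [43], [40], [44], [45], [46], [47]]
  sq := []
  cm := [[[], [6], [], [], [10], [8, 10, 12], [], [], [], [14, 16], [], [13], [], [], [], [17, 18], [], [], [], [20]],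
    [[], [], [5], [], [], [], [], [9, 11], [], [], [12], [], [], [14], [], [], [], [19], [20, 21]], [[], [], [], [7],
    [], [], [8, 10], [], [], [15], [], [], [], [], [17, 23], [], [18], [], [], [], [], [22]], [[], [], [], [], [11,
    15], [9, 11, 15], [], [], [16], [], [13, 18], [], [14, 21], [], [], [], [], [], [], [], [], [], [23]], [[], [],
    [], [], [], [], [12], [], [], [], [], [], [], [17], [19], [], [20, 22]], [[], [], [], [], [], [], [12], [15], [],
    [], [], [], [], [17, 19, 23], [19], [], [20, 21, 22], [], [22]], [[], [], [], [], [], [], [], [13, 16], [], [],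
    [], [14], [], [], [], [19, 21], [], [20]], [[], [], [], [], [], [], [], [], [18], [], [], [], [17, 22], [], [],
    [], [], [], [], [], [], [23]], [[], [], [], [], [], [], [], [], [], [21], [], [20, 23], [], [], [], [22]], [[],
    [], [], [], [], [], [], [], [], [], [19, 22], [], [], [], [], [], [], [], [23]], [[], [], [], [], [], [], [], [],
    [], [], [], [17], [], [], [20]], [[], [], [], [], [], [], [], [], [], [], [], [], [19]], [[], [], [], [], [], [],
    [], [], [], [], [], [], [], [20]], [], [], [[], [], [], [], [], [], [], [], [], [], [], [], [], [], [], [], [23]]]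
  dv := [([], [], []), ([], [], []), ([], [], []), ([], [], []), ([], [], []), ([1], [2], []), ([0], [1], []), ([2],
    [3], []), ([2], [6], [10]), ([1], [7], [11]), ([0], [4], []), ([3], [4], [15]), ([1], [10], []), ([0], [11], []),
    ([1], [13], []), ([2], [9], []), ([3], [8], []), ([4], [13], []), ([2], [16], []), ([1], [17], []), ([0], [19],
    []), ([8], [9], []), ([2], [21], []), ([3], [22], [])]

/-- the series of the Sylow subgroup of the automorphism group -/
def cA : Cert where
  gw := [[48], [33], [27], [28], [33, 24], [27, 25], [28, 30], [34], [26], [41], [31], [35], [29], [37], [36], [38],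
    [32], [42], [39], [43], [40], [44], [45], [46], [47]]
  sq := [[], [], [], [], [], [6]]
  cm := [[[], [4], [5, 6], [6], [], [6], [], [7, 8, 14, 17], [7, 8], [9, 12, 21, 24], [10, 11, 20, 23], [10, 11], [9,
    12], [13, 16], [14, 17], [15, 19], [13, 16], [14, 17], [18, 22], [15, 19], [20, 23], [21, 24], [18, 22], [20, 23],
    [21, 24]], [[], [], [7], [11], [], [7], [9, 11, 13], [], [], [], [15, 17], [], [14], [], [], [], [18, 19], [], [],
    [], [21]], [[], [], [], [], [7], [6], [], [], [10, 12], [], [], [13], [], [], [15], [], [], [], [20], [21, 22]],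
    [[], [], [], [], [11, 12, 14, 16, 18, 19], [], [], [13], [], [], [], [], [], [], [18], [20], [], [21, 23]], [[],
    [], [], [], [], [7, 8, 10, 12], [9, 10, 11, 12, 13, 14, 15, 16, 17, 19, 21, 22, 23], [], [], [17], [15, 17], [14,
    19], [14], [15, 22], [], [], [18, 19], [], [], [], [21], [], [], [24]], [[], [], [], [], [], [], [], [9, 11, 13],
    [10, 12], [], [16], [13], [], [], [15], [18, 20, 24], [], [19, 21, 22], [20], [21, 22], [], [], [23]], [[], [],
    [], [], [], [], [], [13], [16], [], [], [], [], [], [18, 20, 24], [20], [], [21, 22, 23], [], [23]], [[], [], [],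
    [], [], [], [], [], [14, 17], [], [], [], [15], [], [], [], [20, 22], [], [21]], [[], [], [], [], [], [], [], [],
    [], [19], [], [], [], [18, 23], [], [], [], [], [], [], [], [], [24]], [[], [], [], [], [], [], [], [], [], [],
    [22], [], [21, 24], [], [], [], [23]], [[], [], [], [], [], [], [], [], [], [], [], [20, 23], [], [], [], [], [],
    [], [], [24]], [[], [], [], [], [], [], [], [], [], [], [], [], [18], [], [], [21]], [[], [], [], [], [], [], [],
    [], [], [], [], [], [], [20]], [[], [], [], [], [], [], [], [], [], [], [], [], [], [], [21]], [], [], [[], [],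
    [], [], [], [], [], [], [], [], [], [], [], [], [], [], [], [24]]]
  dv := [([], [], []), ([], [], []), ([], [], []), ([], [], []), ([0], [1], []), ([0], [2], [6]), ([0], [3], []),
    ([1], [2], []), ([4], [0, 2], []), ([0], [12], [12]), ([0], [11], [11]), ([1], [3], []), ([3], [1, 4], [16]),
    ([2], [11], []), ([1], [12], []), ([2], [14], []), ([5], [10], []), ([4], [9], []), ([3], [14], []), ([8], [9],
    []), ([2], [18], []), ([1], [20], []), ([9], [10], []), ([5], [22], []), ([4], [23], [])]

/-- the letters as words in the series -/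
def yU : List (List ℕ) :=
  [[3], [2], [7], [1], [4], [11], [4, 5], [9], [15], [0], [6], [10], [13], [12], [14], [17], [19], [8], [16], [18],
    [20], [21], [22], [23]]

/-- the letters as words in the series -/
def yW : List (List ℕ) :=
  [[1, 4], [2, 5], [8], [2], [3], [12], [3, 6], [10], [16], [1], [7], [11], [14], [13], [15], [18], [20], [9], [17],
    [19], [21], [22], [23], [24], [0]]

theorem chkU : ∀ i < 24, chk1 eqv 24 5 cU i = true := by decide +kernel

theorem chkA : ∀ i < 25, chk1 (eqA bar eqv) 25 4 cA i = true := by decide +kernel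

theorem chkYU : ∀ i < 24, inR 0 24 (yU.getD i []) = true ∧ eqv [24 + i] (cU.ex (yU.getD i [])) = true := by
  decide +kernel

theorem chkYA : ∀ i < 25, inR 0 25 (yW.getD i []) = true ∧ eqA bar eqv [24 + i] (cA.ex (yW.getD i [])) = true := by
  decide +kernel

end Cfsg.Agent.MK.S.F4
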