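import Cfsg.Agent.MK.S.F4K

/-!
# MK: the Sylow `2`-subgroups of `F₄(2)` and of its automorphism group modulo their commutator subgroups (helper47)
-/

set_option autoImplicit false
set_option maxRecDepth 100000
set_option maxHeartbeats 100000

namespace Cfsg.Agent.MK.S.F4

open Cfsg Subgroup Cfsg.Agent.MK.T Cfsg.Agent.MK.S.Pc
open Cfsg.Agent.FourTwo Cfsg.Agent.FourTwo.Base Cfsg.Agent.TAB.F42.G

section

variable {G : Type} [Group G]

theorem sq_one {γ : MulAut G} (h : ∀ g, γ (γ g) = g) : γ * γ = 1 := MulEquiv.ext h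

theorem out_of {γ : MulAut G} (h : ¬ ∃ g : G, ∀ h, γ h = g * h * g⁻¹) : γ ∉ (MulAut.conj : G →* MulAut G).range :=
  fun ⟨g, hg⟩ => h ⟨g, fun k => (DFunLike.congr_fun hg k).symm⟩

theorem a2_gen [Finite G] {y : ℕ → G} {γ : MulAut G} (hZ : center G = ⊥)
    (hi : (MulAut.conj : G →* MulAut G).range.index = 2) (h1 : ∀ r < 48, γ (y r) = y (bar r)) (h2 : ∀ g, γ (γ g) = g)
    (h3 : ¬ ∃ g : G, ∀ h, γ h = g * h * g⁻¹) (he : ∀ v w, eqv v w = true → ev y v = ev y w) {U : Subgroup G}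
    (h4 : Nat.card U = 2 ^ 24) (h5 : Nat.card G = 2 ^ 24 * 197358525)
    (h6 : ∀ H : Subgroup G, (∀ i < 24, y (24 + i) ∈ H) → U ≤ H) : a2 G = 32 ∧ a2 (MulAut G) = 16 := by
  constructor
  · have h := pc_of_chk he (by norm_num) chkU
    exact a2_of h4 h5 (by norm_num) (h.index_of (h6 _ fun i hi =>
      mem_of_word he (chkYU i hi).1 (chkYU i hi).2) h4).2
  · have hA := eqA_spec h1 (fun _ => bar_lt) (sq_one h2) he
    have h := pc_of_chk hA (by norm_num) chkA
    have h7 := fun i hi => mem_of_word hA (chkYA i hi).1 (chkYA i hi).2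
    refine a2_aut hZ hi (out_of h3) h4 h5 (by norm_num) h (map_le_iff_le_comap.2 (h6 _ fun i hi => ?_)) ?_
    · have h8 := h7 i (by omega)
      rw [yA, if_neg (by omega)] at h8
      exact h8
    · have h8 := h7 24 (by omega)
      rw [yA, if_pos rfl] at h8
      exact h8

end

theorem card_eq : Nat.card LL = 2 ^ 24 * 197358525 := card_LL

theorem U_le (H : Subgroup LL) (h : ∀ i < 24, x (24 + i) ∈ H) : BN.U ≤ H := by
  rw [Cent.U_eq]
  refine Par.RG_le fun r h1 h2 => ?_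
  have h3 : 24 ≤ r := of_decide_eq_true h2
  rw [show r = 24 + (r - 24) by omega]
  exact h _ (by omega)

end Cfsg.Agent.MK.S.F4
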