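import Cfsg.Agent.MK.S.Spor2
import Cfsg.Agent.MK.S4.ZM

/-!
# MK, the sporadic rows (helper47)
-/

set_option autoImplicit false

namespace Cfsg.Agent.MK.S

/-- **all the sporadic inputs** -/
theorem spor : SporIn := spor_of_suz S4.suz3

end Cfsg.Agent.MK.S
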