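import Cfsg.Agent.MK.S.Spor1
import Cfsg.Agent.MK.S6.F223

/-!
# MK: the sporadic rows, second part of the assembly (helper47)
-/

set_option autoImplicit false

namespace Cfsg.Agent.MK.S

open Cfsg Cfsg.Spor

theorem spor_of_suz (suz3 : SmC Suz) : SporIn := spor_of suz3 S6.fi223

end Cfsg.Agent.MK.S
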