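import Cfsg.Agent.MK.S.Pc
import Cfsg.Agent.MK.T.A
import Cfsg.Agent.H246.TitsComp

/-!
# MK: the Sylow `2`-subgroups of `²F₄(2)` and of the Tits group modulo their commutator subgroups (helper47)
-/

set_option autoImplicit false
set_option maxRecDepth 100000

namespace Cfsg.Agent.MK.S.Tits

open Cfsg Subgroup Cfsg.Agent.MK.T Cfsg.Agent.MK.S.Pc
open Cfsg.Agent.ChevalleyStructure.Tits.Data Cfsg.Agent.ChevalleyStructure.Tits.Order
  Cfsg.Agent.ChevalleyStructure.Tits.Main Cfsg.Agent.ChevalleyStructure.Tits.Mat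

/-- the test for words -/
def eqv (v w : List ℕ) : Bool :=
  (v.all fun i => Nat.blt i 10) && (w.all fun i => Nat.blt i 10) && Nat.beq (evalW v) (evalW w)

theorem eqv_spec (v w : List ℕ) (h : eqv v w = true) : ev yH v = ev yH w := by
  simp only [eqv, Bool.and_eq_true, List.all_eq_true, Nat.blt_eq] at h
  obtain ⟨⟨h1, h2⟩, h3⟩ := h
  refine Subtype.ext ?_
  rw [ev, ev, coe_list _ h1, coe_list _ h2]
  exact rel_of_chk (p := (v, w)) h3 (fun i hi => (h1 i hi).trans (by norm_num)) fun i hi =>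
    (h2 i hi).trans (by norm_num)

/-- the series of the Sylow subgroup of `²F₄(2)` -/
def cU : Cert where
  gw := [[7], [7, 1], [7, 1, 7, 1], [0], [1, 3], [3, 5], [1, 1], [6], [2], [4], [5, 5], [3, 3]]
  sq := [[2, 5, 6, 7, 11], [2], [10, 11], [], [6, 8, 11], [9, 10, 11], [], [], [], [], [], []]
  cm := [[[], [5, 7, 11], [7, 8, 9, 11], [4, 5, 6, 7, 8, 10, 11], [5, 11], [7, 10], [8, 9, 10], [], [9, 11], [10], [],
    []], [[], [], [], [4, 5, 6, 7, 8, 10, 11], [5, 8, 9, 11], [7, 8, 9, 10, 11], [8, 9, 10], [9], [9, 11], [10, 11],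
    [], []], [[], [], [], [5, 6, 7, 8, 9], [7, 8, 9, 10, 11], [10], [9, 10], [10, 11], [10, 11], [], [], []], [[], [],
    [], [], [6], [8], [], [8, 9], [], [], [11], []], [[], [], [], [], [], [8, 9, 11], [], [9], [], [11], [], []], [[],
    [], [], [], [], [], [], [10], [11], [], [], []], [[], [], [], [], [], [], [], [11], [], [], [], []], [[], [], [],
    [], [], [], [], [], [], [], [], []], [[], [], [], [], [], [], [], [], [], [], [], []], [[], [], [], [], [], [],
    [], [], [], [], [], []], [[], [], [], [], [], [], [], [], [], [], [], []], [[], [], [], [], [], [], [], [], [],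
    [], [], []]]
  dv := [([], [], []), ([], [], []), ([], [], []), ([], [], []), ([0], [3], [5, 6, 7, 8, 10, 11]), ([0], [1], [7,
    11]), ([3], [4], []), ([0], [2], [8, 9, 11]), ([0], [6], [9, 10]), ([0], [8], [11]), ([0], [9], []), ([3], [10],
    [])]

/-- the series of the Sylow subgroup of the Tits group -/
def cQ : Cert where
  gw := [[7, 1], [7, 1, 7, 1], [0], [1, 3], [3, 5], [1, 1], [6], [2], [4], [5, 5], [3, 3]]
  sq := [[1], [9, 10], [], [5, 7, 10], [8, 9, 10], [], [], [], [], [], []]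
  cm := [[[], [], [3, 4, 5, 6, 7, 9, 10], [4, 7, 8, 10], [6, 7, 8, 9, 10], [7, 8, 9], [8], [8, 10], [9, 10], [], []],
    [[], [], [4, 5, 6, 7, 8], [6, 7, 8, 9, 10], [9], [8, 9], [9, 10], [9, 10], [], [], []], [[], [], [], [5], [7], [],
    [7, 8], [], [], [10], []], [[], [], [], [], [7, 8, 10], [], [8], [], [10], [], []], [[], [], [], [], [], [], [9],
    [10], [], [], []], [[], [], [], [], [], [], [10], [], [], [], []], [[], [], [], [], [], [], [], [], [], [], []],
    [[], [], [], [], [], [], [], [], [], [], []], [[], [], [], [], [], [], [], [], [], [], []], [[], [], [], [], [],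
    [], [], [], [], [], []], [[], [], [], [], [], [], [], [], [], [], []]]
  dv := [([], [], []), ([], [], []), ([], [], []), ([0], [2], [4, 5, 6, 7, 9, 10]), ([0], [3], [7, 8, 10]), ([2], [3],
    []), ([0], [4], [7, 8, 9, 10]), ([0], [5], [8, 9]), ([0], [6], []), ([0], [8], [10]), ([2], [9], [])]

theorem chkU : ∀ i < 12, chk1 eqv 12 4 cU i = true := by decide +kernel

theorem chkQ : ∀ i < 11, chk1 eqv 11 3 cQ i = true := by decide +kernel

/-- the letters as words in the series -/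
def yW : List (List ℕ) :=
  [[3], [0, 1, 2, 5, 6, 10], [8], [0, 1, 2, 4, 5, 8, 9, 10, 11], [9], [0, 1, 2, 4, 8], [7], [0]]

theorem chkY : ∀ i < 8, inR 0 12 (yW.getD i []) = true ∧ eqv [i] (cU.ex (yW.getD i [])) = true := by decide +kernel

theorem pcU : PC (cU.el yH) 12 4 := pc_of_chk eqv_spec (by norm_num) chkU

theorem pcQ : PC (cQ.el yH) 11 3 := pc_of_chk eqv_spec (by norm_num) chkQ

theorem U_le : ChevalleyStructure.Tits.Sat.V yH 0 ≤ V (cU.el yH) 12 0 := by
  rw [ChevalleyStructure.Tits.Sat.V, closure_le]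
  rintro _ ⟨i, hi, rfl⟩
  obtain ⟨h1, h2⟩ := chkY i hi.2
  have h3 := eqv_spec _ _ h2
  rw [ev_cons, ev_nil, mul_one, cU.ev_ex] at h3
  rw [h3]
  exact inR_mem h1

theorem a2_H0 : a2 H0 = 16 := by
  rw [← ab_sylow H246.TitsComp.syl]
  exact (pcU.index_of U_le card_V_yH).2

theorem card_Q : Nat.card (V (cU.el yH) 12 1) = 2 ^ 11 :=
  pcU.card_eq (((pcU.index_of U_le card_V_yH).1 ▸ card_V_yH :).ge) (k := 1) (by norm_num)

theorem Q_le : V (cU.el yH) 12 1 ≤ V (cQ.el yH) 11 0 := V_le fun i h1 h2 => by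
  obtain ⟨j, rfl⟩ : ∃ j, i = j + 1 := ⟨i - 1, by omega⟩
  exact mem_V (g := cQ.el yH) (Nat.zero_le j) (by omega)

theorem Q_le_T : V (cU.el yH) 12 1 ≤ _root_.commutator H0 := by
  obtain ⟨χ, h0, h1⟩ := H246.TitsComp.exists_chi
  refine V_le fun i h2 h3 => ?_
  rw [H246.TitsComp.mem_commutator_iff χ (h1 7 (by norm_num) rfl)]
  interval_cases i <;>
    simp only [Cert.el, cU, List.getD_cons_succ, List.getD_cons_zero, ev_cons, ev_nil, mul_one, map_mul,
      h0 0 (by norm_num) rfl, h0 2 (by norm_num) rfl, h0 4 (by norm_num) rfl, h0 6 (by norm_num) rfl,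
      h1 1 (by norm_num) rfl, h1 3 (by norm_num) rfl, h1 5 (by norm_num) rfl, h1 7 (by norm_num) rfl] <;> rfl

theorem a2_T : a2 ↥(_root_.commutator H0) = 8 := by
  have := two_prime
  have h1 : Nat.card ((V (cU.el yH) 12 1).subgroupOf (_root_.commutator H0)) = 2 ^ 11 :=
    (Nat.card_congr (subgroupOfEquivOfLe Q_le_T).toEquiv).trans card_Q
  have h2 : (Nat.card (_root_.commutator H0)).factorization 2 = 11 := by
    rw [H0_result.2.2.2, mul_assoc, mul_assoc, Nat.factorization_mul (by norm_num) (by norm_num),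
      Nat.Prime.factorization_pow Nat.prime_two]
    have h3 : Nat.factorization 8775 2 = 0 := Nat.factorization_eq_zero_of_not_dvd (by norm_num)
    simp [h3]
  rw [← ab_sylow (Sylow.ofCard _ (h1.trans (by rw [h2])))]
  exact (ab_congr (subgroupOfEquivOfLe Q_le_T)).trans (pcQ.index_of Q_le card_Q).2

end Cfsg.Agent.MK.S.Tits
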